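import Cfsg.Agent.H701.EB.CoThree
import Cfsg.Agent.H610.EB.RPhi
import Cfsg.Agent.OddOrderCharacters.CyclicTI
import Cfsg.Agent.H798.PSLDih
import Cfsg.Agent.GH.Cov.SylowThree_m3
import Cfsg.Agent.FastGrp
import Cfsg.Agent.Prune
set_option linter.all false

section
prune_inst 0x7ffcfdf8afa8addfdfff7e3ffed9dffc11c1cfffefdffb43ffede19f8fdf032339e5fb8d1de050ff8ef7e2b630b87813fb7eceffef6bdc7ffffd5ff41ffbee5fe5f7b58851d688340fbc2fff03f07f8e7f3fffffffffffffffffffffffffffffffffffffffff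

-- part: H497/EB/TI
section
prune_inst 0x202030042000000000180000200002200000000200408000008006000245006020002801422001100000081020000000020000000000000000000000000000000020100081080000000000803002000000000000000000000000000000000000000000000
set_option linter.all false
open scoped Cfsg.Agent.FastGrp

-- part: H497/EB/Three
section
/-!
# A generalized character of norm three, degree zero, vanishing on the elements of odd order

`exists_phi`: if `Ψ` has norm 3, `⟨Ψ, 1⟩ = -1`, `Ψ 1 = 0` and `Ψ` vanishes on the elements of odd order, then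
`Ψ = -1 + χ - χ'`, `χ` and `χ'` lie in the principal 2-block, and one of them has even degree; it is fixed by all maps
fixing `Ψ`.
-/

set_option autoImplicit false

namespace Cfsg.Agent.H497.EB

open Cfsg Cfsg.Agent.H610.EB Cfsg.Agent.H694 Cfsg.Agent.Characters Cfsg.Agent.Characters.Core
open scoped ComplexConjugate
open Cfsg.Agent.Blocks

universe u

section

variable {S : Type u} [Group S] [Fintype S]

theorem sq_cases {a : ℤ} (h : a ≠ 0) (h2 : a ^ 2 ≤ 2) : a = 1 ∨ a = -1 := by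
  have h1 : a ≤ 1 := by nlinarith
  have h3 : -1 ≤ a := by nlinarith
  omega

/-- norm three -/
theorem decomp {Ψ : S → ℂ} (hg : GC Ψ) (hn : classInner Ψ Ψ = 3)
    (h1 : classInner Ψ (fun _ => (1 : ℂ)) = -1) (h0 : Ψ 1 = 0) :
    ∃ χ χ' : IrrCharacter S, χ ≠ χ' ∧ ∀ g, Ψ g = -1 + (χ : S → ℂ) g - (χ' : S → ℂ) g := by
  classical
  haveI := @Fintype.ofFinite (IrrCharacter S) finite_irr
  let one : IrrCharacter S := ⟨fun _ => 1, Basic.isIrrCharacter_one⟩
  set a : IrrCharacter S → ℤ := fun φ => mu Ψ (φ : S → ℂ) with ha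
  have hspec : ∀ φ : IrrCharacter S, classInner Ψ (φ : S → ℂ) = (a φ : ℂ) := fun φ => hg.mu_spec φ.2
  have ha1 : a one = -1 := by
    have h2 := hspec one
    have h3 : classInner Ψ (one : S → ℂ) = -1 := h1
    rw [h3] at h2
    exact_mod_cast h2.symm
  have hsum : ∑ φ : IrrCharacter S, a φ ^ 2 = 3 := by
    have h2 := classInner_eq_sum hg.cf hg.cf
    rw [hn] at h2
    have h3 : ∀ φ : IrrCharacter S, classInner Ψ (φ : S → ℂ) * conj (classInner Ψ (φ : S → ℂ)) = ((a φ ^ 2 : ℤ) : ℂ) := by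
      intro φ
      rw [hspec, map_intCast]
      push_cast
      ring
    rw [Finset.sum_congr rfl fun φ _ => h3 φ] at h2
    exact_mod_cast h2.symm
  rw [← Finset.add_sum_erase Finset.univ _ (Finset.mem_univ one), ha1] at hsum
  have hsum1 : ∑ φ ∈ Finset.univ.erase one, a φ ^ 2 = 2 := by linarith
  obtain ⟨φ₁, hφ₁, hne₁⟩ : ∃ φ ∈ Finset.univ.erase one, a φ ≠ 0 := by
    by_contra hcon
    push Not at hcon
    rw [Finset.sum_eq_zero fun φ hφ => by rw [hcon φ hφ]; ring] at hsum1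
    exact absurd hsum1 (by norm_num)
  have hle₁ : a φ₁ ^ 2 ≤ 2 := by
    rw [← hsum1]
    exact Finset.single_le_sum (f := fun φ => a φ ^ 2) (fun φ _ => sq_nonneg _) hφ₁
  have hc₁ := sq_cases hne₁ hle₁
  have hs₁ : a φ₁ ^ 2 = 1 := by rcases hc₁ with h | h <;> rw [h] <;> norm_num
  rw [← Finset.add_sum_erase _ _ hφ₁, hs₁] at hsum1
  have hsum2 : ∑ φ ∈ (Finset.univ.erase one).erase φ₁, a φ ^ 2 = 1 := by linarith
  obtain ⟨φ₂, hφ₂, hne₂⟩ : ∃ φ ∈ (Finset.univ.erase one).erase φ₁, a φ ≠ 0 := by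
    by_contra hcon
    push Not at hcon
    rw [Finset.sum_eq_zero fun φ hφ => by rw [hcon φ hφ]; ring] at hsum2
    exact absurd hsum2 (by norm_num)
  have hle₂ : a φ₂ ^ 2 ≤ 1 := by
    rw [← hsum2]
    exact Finset.single_le_sum (f := fun φ => a φ ^ 2) (fun φ _ => sq_nonneg _) hφ₂
  have hc₂ := sq_cases hne₂ (by linarith)
  have hs₂ : a φ₂ ^ 2 = 1 := by rcases hc₂ with h | h <;> rw [h] <;> norm_num
  rw [← Finset.add_sum_erase _ _ hφ₂, hs₂] at hsum2
  have hsum3 : ∑ φ ∈ ((Finset.univ.erase one).erase φ₁).erase φ₂, a φ ^ 2 = 0 := by linarith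
  have hzero : ∀ φ ∈ ((Finset.univ.erase one).erase φ₁).erase φ₂, a φ = 0 := by
    intro φ hφ
    have h2 := (Finset.sum_eq_zero_iff_of_nonneg fun φ _ => sq_nonneg (a φ)).1 hsum3 φ hφ
    exact pow_eq_zero_iff (two_ne_zero) |>.1 h2
  -- the expansion
  have hexp : ∀ g, Ψ g = -1 + (a φ₁ : ℂ) * (φ₁ : S → ℂ) g + (a φ₂ : ℂ) * (φ₂ : S → ℂ) g := by
    intro g
    have h2 := congrFun (classFunction_eq_sum hg.cf) g
    rw [Finset.sum_apply] at h2
    have h3 : ∀ φ : IrrCharacter S, (classInner Ψ (φ : S → ℂ) • (φ : S → ℂ)) g = (a φ : ℂ) * (φ : S → ℂ) g := by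
      intro φ
      rw [Pi.smul_apply, hspec, smul_eq_mul]
    rw [Finset.sum_congr rfl fun φ _ => h3 φ, ← Finset.add_sum_erase Finset.univ _ (Finset.mem_univ one),
      ← Finset.add_sum_erase _ _ hφ₁, ← Finset.add_sum_erase _ _ hφ₂,
      Finset.sum_eq_zero fun φ hφ => by rw [hzero φ hφ]; push_cast; ring, ha1] at h2
    rw [h2]
    have h4 : (one : S → ℂ) g = 1 := rfl
    rw [h4]
    push_cast
    ring
  have hφ₁₂ : φ₂ ≠ φ₁ := Finset.ne_of_mem_erase hφ₂
  have hd := hexp 1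
  rw [h0, Basic.irr_one_eq_charDegree φ₁.2, Basic.irr_one_eq_charDegree φ₂.2] at hd
  have hp₁ := Basic.charDegree_pos φ₁.2
  have hp₂ := Basic.charDegree_pos φ₂.2
  have hd' : (0 : ℤ) = -1 + a φ₁ * charDegree (φ₁ : S → ℂ) + a φ₂ * charDegree (φ₂ : S → ℂ) := by
    exact_mod_cast hd
  rcases hc₁ with h2 | h2 <;> rcases hc₂ with h3 | h3
  · rw [h2, h3] at hd'
    omega
  · refine ⟨φ₁, φ₂, hφ₁₂.symm, fun g => ?_⟩
    rw [hexp, h2, h3]
    push_cast
    ring
  · refine ⟨φ₂, φ₁, hφ₁₂, fun g => ?_⟩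
    rw [hexp, h2, h3]
    push_cast
    ring
  · rw [h2, h3] at hd'
    omega

/-- uniqueness of a difference of irreducible characters -/
theorem diff_unique {χ χ' ψ ψ' : IrrCharacter S} (hne : χ ≠ χ')
    (h : ∀ g, (χ : S → ℂ) g - (χ' : S → ℂ) g = (ψ : S → ℂ) g - (ψ' : S → ℂ) g) : ψ = χ ∧ ψ' = χ' := by
  classical
  have key : ∀ α β : IrrCharacter S, classInner (α : S → ℂ) (β : S → ℂ) = if α = β then 1 else 0 := by
    intro α β
    split_ifs with h1
    · rw [h1]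
      exact classInner_irr_self β.2
    · exact classInner_irr_ne α.2 β.2 fun h2 => h1 (Subtype.ext h2)
  have h1 : (χ : S → ℂ) - (χ' : S → ℂ) = (ψ : S → ℂ) - (ψ' : S → ℂ) := funext h
  have h2 := congrArg (fun f => classInner f (χ : S → ℂ)) h1
  have h2' : classInner ((χ : S → ℂ) - (χ' : S → ℂ)) (χ : S → ℂ) =
    classInner ((ψ : S → ℂ) - (ψ' : S → ℂ)) (χ : S → ℂ) := h2
  rw [classInner_sub_left, classInner_sub_left, key, key, key, key, if_pos rfl, if_neg hne.symm] at h2'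
  have h3 : ψ = χ := by
    by_contra hc
    rw [if_neg hc] at h2'
    split_ifs at h2' <;> norm_num at h2'
  subst h3
  refine ⟨rfl, Subtype.ext (funext fun g => ?_)⟩
  have h4 := h g
  linear_combination h4

/-- **Norm three and degree zero, vanishing on the elements of odd order.** -/
theorem exists_phi {Ψ : S → ℂ} (hg : GC Ψ) (hn : classInner Ψ Ψ = 3)
    (h1 : classInner Ψ (fun _ => (1 : ℂ)) = -1) (h0 : Ψ 1 = 0) (hreg : ∀ g : S, Odd (orderOf g) → Ψ g = 0) :
    ∃ φ : IrrCharacter S, Even (charDegree (φ : S → ℂ)) ∧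
      (∀ M : Ideal AlgInt, IsPModular 2 M → φ ∈ principalBlock M S) ∧ Odd (mu Ψ (φ : S → ℂ)) ∧
      ∀ τ : S → S, Function.Surjective τ → (∀ χ : S → ℂ, IsIrrCharacter S χ → IsIrrCharacter S fun g => χ (τ g)) →
        (∀ g, Ψ (τ g) = Ψ g) → ∀ g, (φ : S → ℂ) (τ g) = (φ : S → ℂ) g := by
  classical
  obtain ⟨χ, χ', hne, hΨ⟩ := decomp hg hn h1 h0
  -- the degrees
  have hd := hΨ 1
  rw [h0, Basic.irr_one_eq_charDegree χ.2, Basic.irr_one_eq_charDegree χ'.2] at hd
  have hd' : charDegree (χ : S → ℂ) = charDegree (χ' : S → ℂ) + 1 := by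
    have h2 : (0 : ℤ) = -1 + charDegree (χ : S → ℂ) - charDegree (χ' : S → ℂ) := by exact_mod_cast hd
    omega
  -- the block
  have hodd : ∀ s : S, IsPRegular 2 s → Odd (orderOf s) := by
    intro s hs
    rw [← Nat.not_even_iff_odd, even_iff_two_dvd]
    exact hs
  let one : IrrCharacter S := ⟨fun _ => 1, Basic.isIrrCharacter_one⟩
  have hr : ∀ s : S, IsPRegular 2 s → (χ : S → ℂ) s = (one : S → ℂ) s + (χ' : S → ℂ) s := by
    intro s hs
    have h2 := hΨ s
    rw [hreg s (hodd s hs)] at h2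
    show (χ : S → ℂ) s = 1 + (χ' : S → ℂ) s
    linear_combination -h2
  have hmem : ∀ M : Ideal AlgInt, IsPModular 2 M → χ ∈ principalBlock M S ∧ χ' ∈ principalBlock M S := by
    intro M hM
    haveI : M.IsPrime := Local.isPrime_of_isPModular hM
    have h2 : SameBlock M (χ : S → ℂ) (one : S → ℂ) := sameBlock_of_reg hM χ one (isIrr_isCharacter χ'.2) hr
    have h3 : SameBlock M (χ : S → ℂ) (χ' : S → ℂ) :=
      sameBlock_of_reg hM χ χ' (isIrr_isCharacter one.2) fun s hs => by rw [hr s hs, add_comm]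
    have h4 : SameBlock M (one : S → ℂ) (χ : S → ℂ) := Basic.sameBlock_symm h2
    exact ⟨h4, Basic.sameBlock_trans h4 h3⟩
  -- the multiplicities
  have hΨ' : Ψ = -(one : S → ℂ) + (χ : S → ℂ) - (χ' : S → ℂ) := by
    funext g
    rw [hΨ g]
    rfl
  have hone : ∀ φ : IrrCharacter S, classInner Ψ (φ : S → ℂ) = - classInner (one : S → ℂ) (φ : S → ℂ) +
      classInner (χ : S → ℂ) (φ : S → ℂ) - classInner (χ' : S → ℂ) (φ : S → ℂ) := by
    intro φ
    rw [hΨ', classInner_sub_left, classInner_add_left, classInner_neg_left]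
  have key : ∀ α β : IrrCharacter S, classInner (α : S → ℂ) (β : S → ℂ) = if α = β then 1 else 0 := by
    intro α β
    split_ifs with h1
    · rw [h1]
      exact classInner_irr_self β.2
    · exact classInner_irr_ne α.2 β.2 fun h2 => h1 (Subtype.ext h2)
  have hone1 := hone one
  have h1' : classInner Ψ (one : S → ℂ) = -1 := h1
  rw [h1', key, key, key, if_pos rfl] at hone1
  have hχ1 : χ ≠ one ∧ χ' ≠ one := by
    by_cases h2 : χ = one <;> by_cases h3 : χ' = one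
    · exact absurd (h2.trans h3.symm) hne
    · rw [if_pos h2, if_neg h3] at hone1
      norm_num at hone1
    · rw [if_neg h2, if_pos h3] at hone1
      norm_num at hone1
    · exact ⟨h2, h3⟩
  have hmu : mu Ψ (χ : S → ℂ) = 1 := mu_eq (by
    rw [hone, key, key, key, if_neg hχ1.1.symm, if_pos rfl, if_neg hne.symm]
    norm_num)
  have hmu' : mu Ψ (χ' : S → ℂ) = -1 := mu_eq (by
    rw [hone, key, key, key, if_neg hχ1.2.symm, if_neg hne, if_pos rfl]
    norm_num)
  -- invariance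
  have hinv : ∀ τ : S → S, Function.Surjective τ →
      (∀ χ : S → ℂ, IsIrrCharacter S χ → IsIrrCharacter S fun g => χ (τ g)) → (∀ g, Ψ (τ g) = Ψ g) →
      (∀ g, (χ : S → ℂ) (τ g) = (χ : S → ℂ) g) ∧ ∀ g, (χ' : S → ℂ) (τ g) = (χ' : S → ℂ) g := by
    intro τ _ hirr hτΨ
    let ψ : IrrCharacter S := ⟨fun g => (χ : S → ℂ) (τ g), hirr _ χ.2⟩
    let ψ' : IrrCharacter S := ⟨fun g => (χ' : S → ℂ) (τ g), hirr _ χ'.2⟩
    obtain ⟨h2, h3⟩ := diff_unique (ψ := ψ) (ψ' := ψ') hne (fun g => by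
      have h4 := hτΨ g
      rw [hΨ, hΨ] at h4
      show (χ : S → ℂ) g - (χ' : S → ℂ) g = (χ : S → ℂ) (τ g) - (χ' : S → ℂ) (τ g)
      linear_combination -h4)
    exact ⟨fun g => congrFun (congrArg Subtype.val h2) g, fun g => congrFun (congrArg Subtype.val h3) g⟩
  rcases Nat.even_or_odd (charDegree (χ : S → ℂ)) with he | ho
  · exact ⟨χ, he, fun M hM => (hmem M hM).1, by rw [hmu]; exact odd_one, fun τ h2 h3 h4 => (hinv τ h2 h3 h4).1⟩
  · refine ⟨χ', ?_, fun M hM => (hmem M hM).2, by rw [hmu']; decide, fun τ h2 h3 h4 => (hinv τ h2 h3 h4).2⟩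
    rw [hd'] at ho
    rcases Nat.even_or_odd (charDegree (χ' : S → ℂ)) with he | ho'
    · exact he
    · exact absurd (ho'.add_odd odd_one) (Nat.not_even_iff_odd.2 ho)

end

end Cfsg.Agent.H497.EB
end

-- part: H497/EB/TI
section
/-!
# A linear character of order four of a subgroup which is TI outside its kernel

`TI T lam w`: `lam` is a linear character of order 4 of the subgroup `T` of the finite group `S`, inverted by `w`;
elements outside the kernel of `lam` are fused only by `T ∪ w T`; the pair is unique up to `Aut S`-conjugacy.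
Then `Ψ = Ind (lam - 1)` has norm 3 and degree 0, vanishes on the elements of odd order, and `S` has a character
with all the properties of `RPhi` (`TI.exists_rphi`, `TI.evenJ`).
-/

set_option autoImplicit false
set_option linter.unusedSectionVars false
set_option linter.style.haveILetI false

namespace Cfsg.Agent.H497.EB

open Cfsg Cfsg.Agent.H610.EB Cfsg.Agent.H694 Cfsg.Agent.Characters Cfsg.Agent.Characters.Core
open Cfsg.Agent.H684.EB
open scoped ComplexConjugate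
open Cfsg.Agent.Blocks
open Cfsg.Agent.OddOrderCharacters.CyclicTI (classInner_hom conj_hom_apply)

universe u

section pow

variable {C : Type u} [Group C] [Fintype C] {k : ℕ}

/-- linear characters of 2-power order are power-fixed -/
theorem hom_pow_eq {A : Type*} [CommGroup A] (hk : IsK C k) (f : C →* A) (x : C)
    (hj : ∃ j : ℕ, f x ^ 2 ^ j = 1) : f (x ^ k) = f x := by
  obtain ⟨j, hj⟩ := hj
  obtain ⟨u, v, -, hv, hu2, hv2, huv⟩ := exists_two_part x
  have hfv : f v = 1 := by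
    obtain ⟨n, hn⟩ := Subgroup.mem_zpowers_iff.1 hv
    have h1 : f v ^ 2 ^ j = 1 := by
      rw [← hn, map_zpow, ← zpow_natCast, ← zpow_mul, mul_comm, zpow_mul, zpow_natCast, hj, one_zpow]
    have h2 : f v ^ orderOf v = 1 := by rw [← map_pow, pow_orderOf_eq_one, map_one]
    have h3 : Nat.Coprime (2 ^ j) (orderOf v) := Nat.Coprime.pow_left j (Nat.coprime_two_left.2 hv2)
    exact orderOf_eq_one_iff.1 (Nat.eq_one_of_dvd_coprimes h3 (orderOf_dvd_of_pow_eq_one h1)
      (orderOf_dvd_of_pow_eq_one h2))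
  have hfx : f x = f u := by rw [huv, map_mul, hfv, mul_one]
  rw [map_pow, hfx, ← map_pow, hk.two u hu2]

end pow

variable {S : Type u} [Group S] [Fintype S]

/-- A linear character of order 4, TI outside its kernel. -/
structure TI (T : Subgroup S) (lam : T →* ℂˣ) (w : S) : Prop where
  four : ∀ t, lam t ^ 4 = 1
  two : ∃ t, lam t ^ 2 ≠ 1
  inv : ∀ t : T, ∃ t' : T, (t' : S) = w * t * w⁻¹ ∧ lam t' = (lam t)⁻¹
  ti : ∀ (x : S) (t t' : T), (t' : S) = x * t * x⁻¹ → lam t ≠ 1 → lam t' ≠ 1 → x ∈ T ∨ w⁻¹ * x ∈ T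
  aut : ∀ a : S ≃* S, ∃ s : S, ∀ t : T, ∃ t' : T, (t' : S) = s * a t * s⁻¹ ∧ lam t' = lam t

variable {T : Subgroup S} {lam : T →* ℂˣ} {w : S}

/-- `lam - 1` -/
noncomputable def eta (lam : T →* ℂˣ) : T → ℂ := fun t => (lam t : ℂ) - 1

/-- the induced character -/
noncomputable def Psi (lam : T →* ℂˣ) : S → ℂ := indFun T (eta lam)

theorem ext_mem (θ : T → ℂ) {x : S} (hx : x ∈ T) : extendByZero T θ x = θ ⟨x, hx⟩ :=
  Function.Injective.extend_apply Subtype.val_injective θ 0 (⟨x, hx⟩ : T)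

theorem ext_not_mem (θ : T → ℂ) {x : S} (hx : x ∉ T) : extendByZero T θ x = 0 := by
  rw [extendByZero, Function.extend_apply' _ _ _ (by rintro ⟨t, ht⟩; exact hx (ht ▸ t.2))]
  rfl

theorem Psi_apply (lam : T →* ℂˣ) (g : S) :
    Psi lam g = (Nat.card T : ℂ)⁻¹ * ∑ x : S, extendByZero T (eta lam) (x⁻¹ * g * x) := rfl

theorem gc_eta [Fintype T] (lam : T →* ℂˣ) : GC (eta lam) := by
  have h1 := (GC.of_irr (Characters.Linear.isIrrCharacter_hom lam)).sub
    (GC.of_irr (Characters.Linear.isIrrCharacter_hom (1 : T →* ℂˣ)))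
  have h2 : eta lam = (fun t => (lam t : ℂ)) - fun t => (((1 : T →* ℂˣ) t : ℂˣ) : ℂ) := by
    funext t
    simp [eta]
  rw [h2]
  exact h1

theorem gc_Psi (lam : T →* ℂˣ) : GC (Psi lam) := by
  haveI : Fintype T := Fintype.ofFinite _
  exact (gc_eta lam).indFun T

theorem lam_conj_mem {x : S} (hx : x ∈ T) (t : T) (h : x⁻¹ * t * x ∈ T) :
    lam ⟨x⁻¹ * t * x, h⟩ = lam t := by
  have h1 : (⟨x⁻¹ * t * x, h⟩ : T) = (⟨x, hx⟩ : T)⁻¹ * t * ⟨x, hx⟩ := rfl
  rw [h1, map_mul, map_mul, map_inv, mul_comm, mul_inv_cancel_left]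

namespace TI

variable (h : TI T lam w)

include h in
theorem w_not_mem : w ∉ T := by
  intro hw
  obtain ⟨t, ht⟩ := h.two
  obtain ⟨t', h1, h2⟩ := h.inv t
  apply ht
  have h3 : t' = ⟨w, hw⟩ * t * ⟨w, hw⟩⁻¹ := Subtype.ext h1
  rw [h3, map_mul, map_mul, map_inv, mul_comm, inv_mul_cancel_left] at h2
  rw [sq]
  nth_rewrite 1 [h2]
  exact inv_mul_cancel _

include h in
/-- the values of `Ψ` outside the kernel -/
theorem Psi_of_ne (t : T) (ht : lam t ≠ 1) : Psi lam (t : S) = (lam t : ℂ) + ((lam⁻¹) t : ℂ) - 2 := by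
  classical
  haveI : Fintype T := Fintype.ofFinite _
  have h1 : ∀ x : S, extendByZero T (eta lam) (x⁻¹ * t * x) =
      (if x ∈ T then ((lam t : ℂ) - 1) else 0) + (if x * w ∈ T then (((lam⁻¹) t : ℂ) - 1) else 0) := by
    intro x
    by_cases hx : x ∈ T
    · have hxw : x * w ∉ T := by
        intro h2
        apply h.w_not_mem
        have h3 := T.mul_mem (T.inv_mem hx) h2
        rwa [inv_mul_cancel_left] at h3
      have h2 : x⁻¹ * t * x ∈ T := T.mul_mem (T.mul_mem (T.inv_mem hx) t.2) hx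
      rw [if_pos hx, if_neg hxw, add_zero, ext_mem _ h2]
      show (lam _ : ℂ) - 1 = _
      rw [lam_conj_mem hx]
    · rw [if_neg hx, zero_add]
      by_cases hxw : x * w ∈ T
      · rw [if_pos hxw]
        have h2 : (x * w)⁻¹ * t * (x * w) ∈ T := T.mul_mem (T.mul_mem (T.inv_mem hxw) t.2) hxw
        obtain ⟨t', h3, h4⟩ := h.inv ⟨_, h2⟩
        have h5 : x⁻¹ * t * x = t' := by
          rw [h3]
          show x⁻¹ * t * x = w * ((x * w)⁻¹ * t * (x * w)) * w⁻¹
          group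
        rw [lam_conj_mem hxw] at h4
        rw [h5, ext_mem _ t'.2]
        show (lam t' : ℂ) - 1 = _
        rw [h4, MonoidHom.inv_apply]
      · rw [if_neg hxw]
        by_cases h2 : x⁻¹ * t * x ∈ T
        · rw [ext_mem _ h2]
          by_cases h3 : lam ⟨x⁻¹ * t * x, h2⟩ = 1
          · show (lam _ : ℂ) - 1 = 0
            rw [h3]
            simp
          · exfalso
            rcases h.ti x⁻¹ t ⟨x⁻¹ * t * x, h2⟩ (by simp) ht h3 with h4 | h4
            · exact hx (T.inv_mem_iff.1 h4)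
            · apply hxw
              have h5 := T.inv_mem h4
              rwa [mul_inv_rev, inv_inv, inv_inv] at h5
        · exact ext_not_mem _ h2
  rw [Psi_apply, Finset.sum_congr rfl fun x _ => h1 x, Finset.sum_add_distrib]
  have h2 : ∀ c : ℂ, ∑ x : S, (if x ∈ T then c else 0) = (Nat.card T : ℂ) * c := by
    intro c
    rw [← Finset.sum_filter, Finset.sum_const, nsmul_eq_mul, Nat.card_eq_fintype_card,
      Fintype.card_subtype]
  have h3 : ∀ c : ℂ, ∑ x : S, (if x * w ∈ T then c else 0) = (Nat.card T : ℂ) * c := by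
    intro c
    rw [← h2 c]
    exact Fintype.sum_equiv (Equiv.mulRight w) _ _ fun x => rfl
  rw [h2, h3]
  have h4 : (Nat.card T : ℂ) ≠ 0 := card_ne_zero_complex
  field_simp
  ring

include h in
theorem lam_ne_one : lam ≠ 1 := by
  intro h1
  obtain ⟨t, ht⟩ := h.two
  rw [h1] at ht
  exact ht (by simp)

include h in
theorem lam_ne_inv : lam ≠ lam⁻¹ := by
  intro h1
  obtain ⟨t, ht⟩ := h.two
  apply ht
  have h2 := DFunLike.congr_fun h1 t
  rw [MonoidHom.inv_apply] at h2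
  rw [sq]
  nth_rewrite 1 [h2]
  exact inv_mul_cancel _

theorem eta_one : eta lam (1 : T) = 0 := by
  show (lam 1 : ℂ) - 1 = 0
  simp

include h in
theorem norm : classInner (Psi lam) (Psi lam) = 3 := by
  classical
  haveI : Fintype T := Fintype.ofFinite _
  have h1 : classInner (Psi lam) (Psi lam) = classInner (eta lam) (fun t : T => Psi lam t) :=
    Cfsg.Agent.OddOrderCharacters.Clifford.classInner_indFun T (eta lam) (Psi lam) (gc_Psi lam).cf
  have h2 : classInner (eta lam) (fun t : T => Psi lam t) =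
      classInner (eta lam) (fun t : T => (lam t : ℂ) + ((lam⁻¹) t : ℂ) - 2) := by
    rw [Core.classInner_def, Core.classInner_def]
    congr 1
    refine Finset.sum_congr rfl fun t _ => ?_
    by_cases ht : lam t = 1
    · have h3 : eta lam t = 0 := by
        show (lam t : ℂ) - 1 = 0
        rw [ht]
        simp
      rw [h3, zero_mul, zero_mul]
    · rw [h.Psi_of_ne t ht]
  have h3 : eta lam = (fun t => (lam t : ℂ)) - fun t => (((1 : T →* ℂˣ) t : ℂˣ) : ℂ) := by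
    funext t
    simp [eta]
  have h4 : (fun t : T => (lam t : ℂ) + ((lam⁻¹) t : ℂ) - 2) =
      (fun t => (lam t : ℂ)) + (fun t => ((lam⁻¹) t : ℂ)) - (2 : ℂ) • fun t => (((1 : T →* ℂˣ) t : ℂˣ) : ℂ) := by
    funext t
    simp
  have hne1 := h.lam_ne_one
  have hne2 := h.lam_ne_inv
  have hne3 : lam⁻¹ ≠ 1 := by
    intro h5
    apply hne1
    ext t
    have h6 := DFunLike.congr_fun h5 t
    rw [MonoidHom.inv_apply, MonoidHom.one_apply, inv_eq_one] at h6
    rw [h6, MonoidHom.one_apply]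
  rw [h1, h2, h3, h4]
  simp only [classInner_sub_left, classInner_sub_right, classInner_add_right, classInner_smul_right,
    classInner_hom, if_neg hne1, if_neg hne2, if_neg hne1.symm, if_neg hne3.symm, if_true]
  have h5 : (starRingEnd ℂ) 2 = 2 := Complex.conj_ofNat 2
  rw [h5]
  norm_num

include h in
theorem inner_one : classInner (Psi lam) (fun _ => (1 : ℂ)) = -1 := by
  classical
  haveI : Fintype T := Fintype.ofFinite _
  have h1 : classInner (Psi lam) (fun _ => (1 : ℂ)) = classInner (eta lam) (fun _ : T => (1 : ℂ)) :=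
    Cfsg.Agent.OddOrderCharacters.Clifford.classInner_indFun T (eta lam) (fun _ => 1)
      (fun _ _ => rfl)
  have h3 : eta lam = (fun t => (lam t : ℂ)) - fun t => (((1 : T →* ℂˣ) t : ℂˣ) : ℂ) := by
    funext t
    simp [eta]
  have h4 : (fun _ : T => (1 : ℂ)) = fun t => (((1 : T →* ℂˣ) t : ℂˣ) : ℂ) := by
    funext t
    simp
  have hne1 := h.lam_ne_one
  rw [h1, h3, h4, classInner_sub_left, classInner_hom, classInner_hom, if_neg hne1, if_pos rfl]
  norm_num

theorem Psi_one : Psi lam (1 : S) = 0 := by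
  rw [Psi_apply, Finset.sum_eq_zero, mul_zero]
  intro x _
  have h1 : x⁻¹ * 1 * x = 1 := by group
  rw [h1, ext_mem _ T.one_mem]
  exact eta_one

include h in
theorem Psi_odd (g : S) (hg : Odd (orderOf g)) : Psi lam g = 0 := by
  rw [Psi_apply, Finset.sum_eq_zero, mul_zero]
  intro x _
  by_cases hx : x⁻¹ * g * x ∈ T
  · rw [ext_mem _ hx]
    have h1 : orderOf (⟨x⁻¹ * g * x, hx⟩ : T) = orderOf g := by
      rw [Subgroup.orderOf_mk]
      have h2 := orderOf_injective (MulAut.conj x⁻¹).toMonoidHom (MulAut.conj x⁻¹).injective g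
      simpa using h2
    have h2 : lam ⟨x⁻¹ * g * x, hx⟩ ^ orderOf g = 1 := by
      rw [← map_pow, ← h1, pow_orderOf_eq_one, map_one]
    have h3 := h.four ⟨x⁻¹ * g * x, hx⟩
    have h4 : Nat.Coprime 4 (orderOf g) := by
      have := Nat.Coprime.pow_left 2 (Nat.coprime_two_left.2 hg)
      exact this
    have h5 : lam ⟨x⁻¹ * g * x, hx⟩ = 1 := orderOf_eq_one_iff.1 (Nat.eq_one_of_dvd_coprimes h4
      (orderOf_dvd_of_pow_eq_one h3) (orderOf_dvd_of_pow_eq_one h2))
    show (lam _ : ℂ) - 1 = 0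
    rw [h5]
    simp
  · exact ext_not_mem _ hx

include h in
theorem Psi_pow {k : ℕ} (hk : IsK S k) (g : S) : Psi lam (g ^ k) = Psi lam g := by
  haveI : Fintype T := Fintype.ofFinite _
  refine indFun_pow T hk (fun t => ?_) g
  show (lam (t ^ k) : ℂ) - 1 = (lam t : ℂ) - 1
  rw [hom_pow_eq (hk.sub T) lam t ⟨2, h.four t⟩]

include h in
theorem Psi_aut (a : S ≃* S) (g : S) : Psi lam (a g) = Psi lam g := by
  classical
  obtain ⟨s, hs⟩ := h.aut a
  choose c hc1 hc2 using hs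
  have hcinj : Function.Injective c := by
    intro t t' htt
    have h1 := hc1 t
    rw [htt, hc1 t'] at h1
    have h2 : a (t' : S) = a t := by
      have h3 := mul_right_cancel h1
      exact mul_left_cancel h3
    exact Subtype.ext (a.injective h2).symm
  have hcsurj := Finite.surjective_of_injective hcinj
  -- the twisted function
  have key : ∀ z : S, extendByZero T (eta lam) (s * a z * s⁻¹) = extendByZero T (eta lam) z := by
    intro z
    by_cases hz : z ∈ T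
    · have h1 : s * a z * s⁻¹ = c ⟨z, hz⟩ := (hc1 ⟨z, hz⟩).symm
      rw [h1, ext_mem _ (c ⟨z, hz⟩).2, ext_mem _ hz]
      show (lam _ : ℂ) - 1 = (lam _ : ℂ) - 1
      rw [← hc2 ⟨z, hz⟩]
    · rw [ext_not_mem _ hz, ext_not_mem]
      intro h1
      obtain ⟨t, ht⟩ := hcsurj ⟨_, h1⟩
      have h2 := hc1 t
      rw [ht] at h2
      have h3 : a z = a t := by
        have h4 : s * a z * s⁻¹ = s * a t * s⁻¹ := h2
        exact mul_left_cancel (mul_right_cancel h4)
      exact hz (a.injective h3 ▸ t.2)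
  have h1 : Psi lam (s * a g * s⁻¹) = Psi lam (a g) := (gc_Psi lam).cf (a g) s
  rw [← h1, Psi_apply, Psi_apply]
  congr 1
  let β : S ≃* S := a.trans (MulAut.conj s)
  refine (Fintype.sum_equiv β.toEquiv _ _ fun x => ?_).symm
  show extendByZero T (eta lam) (x⁻¹ * g * x) =
    extendByZero T (eta lam) ((β x)⁻¹ * (s * a g * s⁻¹) * β x)
  have h2 : (β x)⁻¹ * (s * a g * s⁻¹) * β x = s * a (x⁻¹ * g * x) * s⁻¹ := by
    show (s * a x * s⁻¹)⁻¹ * (s * a g * s⁻¹) * (s * a x * s⁻¹) = _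
    rw [map_mul, map_mul, map_inv]
    group
  rw [h2, key]

/-! ### Extensions -/

section ext

variable {H : Type u} [Group H] [Fintype H] (N : Subgroup H) [hN : N.Normal] (e : S ≃* N)

/-- the embedding of `T` -/
def emb (T : Subgroup S) : T → H := fun t => (e (t : S) : H)

theorem emb_injective (T : Subgroup S) : Function.Injective (emb N e T) := by
  intro t t' htt
  exact Subtype.ext (e.injective (Subtype.ext htt))

/-- the extension by zero -/
noncomputable def FF (lam : T →* ℂˣ) : H → ℂ := Function.extend (emb N e T) (fun t => (lam t : ℂ)) 0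

theorem FF_emb (t : T) : FF N e lam (emb N e T t) = lam t :=
  (emb_injective N e T).extend_apply _ _ t

theorem FF_zero {z : H} (hz : ∀ t : T, emb N e T t ≠ z) : FF N e lam z = 0 := by
  rw [FF, Function.extend_apply' _ _ _ (by rintro ⟨t, ht⟩; exact hz t ht)]
  rfl

/-- the stabilizer of `(T, lam)` -/
noncomputable def stab (lam : T →* ℂˣ) : Subgroup H where
  carrier := {x | ∀ z, FF N e lam (x * z * x⁻¹) = FF N e lam z}
  one_mem' := by
    intro z
    simp
  mul_mem' := by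
    intro x y hx hy z
    have h1 : x * y * z * (x * y)⁻¹ = x * (y * z * y⁻¹) * x⁻¹ := by group
    rw [h1, hx, hy]
  inv_mem' := by
    intro x hx z
    have h1 := hx (x⁻¹ * z * x⁻¹⁻¹)
    have h2 : x * (x⁻¹ * z * x⁻¹⁻¹) * x⁻¹ = z := by group
    rw [h2] at h1
    exact h1.symm

/-- the criterion -/
theorem mem_stab (lam : T →* ℂˣ) (x : H)
    (hx : ∀ t : T, ∃ t' : T, emb N e T t' = x * emb N e T t * x⁻¹ ∧ lam t' = lam t) :
    x ∈ stab N e lam := by
  choose c hc1 hc2 using hx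
  have hcinj : Function.Injective c := by
    intro t t' htt
    have h1 := hc1 t
    rw [htt, hc1 t'] at h1
    exact (emb_injective N e T (mul_left_cancel (mul_right_cancel h1))).symm
  have hcsurj := Finite.surjective_of_injective hcinj
  intro z
  by_cases hz : ∃ t : T, emb N e T t = z
  · obtain ⟨t, rfl⟩ := hz
    rw [← hc1, FF_emb, FF_emb, hc2]
  · push Not at hz
    rw [FF_zero N e hz, FF_zero]
    intro t ht
    obtain ⟨t₁, rfl⟩ := hcsurj t
    rw [hc1] at ht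
    exact hz t₁ (mul_left_cancel (mul_right_cancel ht))

theorem of_mem_stab {x : H} (hx : x ∈ stab N e lam) (t : T) :
    ∃ t' : T, emb N e T t' = x * emb N e T t * x⁻¹ ∧ lam t' = lam t := by
  have h1 := hx (emb N e T t)
  by_cases hz : ∃ t' : T, emb N e T t' = x * emb N e T t * x⁻¹
  · obtain ⟨t', ht'⟩ := hz
    refine ⟨t', ht', ?_⟩
    rw [← ht', FF_emb, FF_emb] at h1
    exact Units.ext h1
  · push Not at hz
    rw [FF_zero N e hz, FF_emb] at h1
    exact absurd h1.symm (Units.ne_zero _)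

theorem emb_mem_stab (lam : T →* ℂˣ) (t : T) : emb N e T t ∈ stab N e lam := by
  refine mem_stab N e lam _ fun t' => ⟨t * t' * t⁻¹, ?_, ?_⟩
  · show (e ((t * t' * t⁻¹ : T) : S) : H) = (e (t : S) : H) * (e (t' : S) : H) * (e (t : S) : H)⁻¹
    rw [Subgroup.coe_mul, Subgroup.coe_mul, Subgroup.coe_inv, map_mul, map_mul, map_inv]
    rfl
  · rw [map_mul, map_mul, map_inv, mul_comm, inv_mul_cancel_left]

include h in
/-- `N ∩ P = T` -/
theorem mem_of_mem_stab {n : N} (hn : (n : H) ∈ stab N e lam) : e.symm n ∈ T := by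
  obtain ⟨t, ht⟩ := h.two
  have ht1 : lam t ≠ 1 := by
    intro h1
    rw [h1] at ht
    exact ht (by simp)
  obtain ⟨t', h1, h2⟩ := of_mem_stab N e hn t
  have h3 : (t' : S) = e.symm n * t * (e.symm n)⁻¹ := by
    apply e.injective
    rw [map_mul, map_mul, map_inv, MulEquiv.apply_symm_apply]
    exact Subtype.ext h1
  rcases h.ti (e.symm n) t t' h3 ht1 (by rw [h2]; exact ht1) with h4 | h4
  · exact h4
  · exfalso
    -- `e.symm n = w u`
    set u : T := ⟨w⁻¹ * e.symm n, h4⟩ with hu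
    obtain ⟨t₂, h5, h6⟩ := h.inv (u * t * u⁻¹)
    have h7 : t₂ = t' := by
      apply Subtype.ext
      rw [h5, h3, Subgroup.coe_mul, Subgroup.coe_mul, Subgroup.coe_inv]
      show w * (w⁻¹ * e.symm n * t * (w⁻¹ * e.symm n)⁻¹) * w⁻¹ = _
      group
    have h8 : lam (u * t * u⁻¹) = lam t := by
      rw [map_mul, map_mul, map_inv, mul_comm, inv_mul_cancel_left]
    rw [h7, h2, h8] at h6
    apply ht
    rw [sq]
    nth_rewrite 1 [h6]
    exact inv_mul_cancel _

include h in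
/-- `N P = H` -/
theorem sup_stab : N ⊔ stab N e lam = ⊤ := by
  rw [eq_top_iff]
  intro x _
  let a : S ≃* S := (e.trans (MulAut.conjNormal x : MulAut N)).trans e.symm
  have ha : ∀ y : S, (e (a y) : H) = x * e y * x⁻¹ := by
    intro y
    show ((e (e.symm ((MulAut.conjNormal x : MulAut N) (e y))) : N) : H) = _
    rw [MulEquiv.apply_symm_apply, MulAut.conjNormal_apply]
  obtain ⟨s, hs⟩ := h.aut a
  have h1 : (e s : H) * x ∈ stab N e lam := by
    refine mem_stab N e lam _ fun t => ?_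
    obtain ⟨t', h1, h2⟩ := hs t
    refine ⟨t', ?_, h2⟩
    show (e (t' : S) : H) = (e s : H) * x * (e (t : S) : H) * ((e s : H) * x)⁻¹
    rw [h1, map_mul, map_mul, map_inv, Subgroup.coe_mul, Subgroup.coe_mul, Subgroup.coe_inv, ha]
    group
  have h2 : x = (e s : H)⁻¹ * ((e s : H) * x) := by group
  rw [h2]
  exact Subgroup.mul_mem _ ((le_sup_left : N ≤ _) (N.inv_mem (e s).2))
    ((le_sup_right : stab N e lam ≤ _) h1)

include h in
/-- The odd extension property. -/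
theorem oddExt [Fintype N] (hcyc : IsCyclic (H ⧸ N)) (hidx : ∃ j : ℕ, N.index = 2 ^ j) {k : ℕ}
    (hk : IsK H k) {φ : S → ℂ} (hφ : IsIrrCharacter S φ) (hodd : Odd (mu (Psi lam) φ)) :
    OddExt H N k (fun n => φ (e.symm n)) := by
  classical
  set P : Subgroup H := stab N e lam with hP
  haveI : Fintype P := Fintype.ofFinite _
  haveI : Fintype T := Fintype.ofFinite _
  haveI iD : Fintype (N.subgroupOf P) := Fintype.ofFinite _
  -- the map to `T`
  have hmem : ∀ d : N.subgroupOf P, e.symm ⟨((d : P) : H), Subgroup.mem_subgroupOf.1 d.2⟩ ∈ T :=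
    fun d => h.mem_of_mem_stab N e (n := ⟨((d : P) : H), Subgroup.mem_subgroupOf.1 d.2⟩) (d : P).2
  let δ : N.subgroupOf P →* T :=
    { toFun := fun d => ⟨_, hmem d⟩
      map_one' := Subtype.ext (map_one e.symm)
      map_mul' := fun d d' => Subtype.ext (map_mul e.symm ⟨((d : P) : H), Subgroup.mem_subgroupOf.1 d.2⟩
        ⟨((d' : P) : H), Subgroup.mem_subgroupOf.1 d'.2⟩) }
  have hδ : ∀ d : N.subgroupOf P, emb N e T (δ d) = ((d : P) : H) := by
    intro d
    show ((e (e.symm ⟨((d : P) : H), Subgroup.mem_subgroupOf.1 d.2⟩) : N) : H) = _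
    rw [MulEquiv.apply_symm_apply]
  have hbij : Function.Bijective δ := by
    refine ⟨fun d d' hdd => ?_, fun t => ?_⟩
    · have h1 := congrArg (emb N e T) hdd
      rw [hδ, hδ] at h1
      exact Subtype.ext (Subtype.ext h1)
    · refine ⟨⟨⟨emb N e T t, emb_mem_stab N e lam t⟩, Subgroup.mem_subgroupOf.2 (e (t : S)).2⟩, ?_⟩
      apply emb_injective N e T
      rw [hδ]
  -- the linear character of `D`
  have hinv : ∀ (g : P) (n : N.subgroupOf P),
      (lam (δ ⟨g * n * g⁻¹, (inferInstance : (N.subgroupOf P).Normal).conj_mem (n : P) n.2 g⟩) : ℂ) =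
        lam (δ n) := by
    intro g n
    have h1 := g.2 (((n : P) : H))
    have h2 := hδ ⟨g * n * g⁻¹, (inferInstance : (N.subgroupOf P).Normal).conj_mem (n : P) n.2 g⟩
    have h3 : FF N e lam ((g : H) * ((n : P) : H) * (g : H)⁻¹) =
        lam (δ ⟨g * n * g⁻¹, (inferInstance : (N.subgroupOf P).Normal).conj_mem (n : P) n.2 g⟩) := by
      rw [← FF_emb N e, h2]
      rfl
    rw [← h3, h1, ← hδ n, FF_emb]
  -- the quotient is cyclic
  have hcycP : IsCyclic (P ⧸ N.subgroupOf P) := by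
    let f : P ⧸ N.subgroupOf P →* H ⧸ N :=
      QuotientGroup.map (N.subgroupOf P) N P.subtype (fun x hx => hx)
    refine isCyclic_of_injective f ?_
    rw [injective_iff_map_eq_one]
    intro x
    obtain ⟨y, rfl⟩ := QuotientGroup.mk_surjective x
    intro hx
    rw [QuotientGroup.eq_one_iff]
    have h1 : (QuotientGroup.mk ((y : H)) : H ⧸ N) = 1 := hx
    exact Subgroup.mem_subgroupOf.2 ((QuotientGroup.eq_one_iff _).1 h1)
  obtain ⟨χ₀, hχ₀, hχ₀D⟩ := Cfsg.Agent.S0886.result (N.subgroupOf P) hcycP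
    (fun n => (lam (δ n) : ℂ)) (Characters.Linear.isIrrCharacter_hom (lam.comp δ)) hinv
  obtain ⟨f, rfl⟩ := Characters.Linear.exists_hom_of_isIrrCharacter hχ₀ (by
    have h1 := hχ₀D 1
    rw [Subgroup.coe_one] at h1
    rw [h1]
    simp)
  have hf : ∀ d : N.subgroupOf P, f d = lam (δ d) := fun d => Units.ext (hχ₀D d)
  have hfk : ∀ t : P, f (t ^ k) = f t := by
    intro t
    refine hom_pow_eq (hk.sub P) f t ?_
    obtain ⟨j, hj⟩ := hidx
    refine ⟨j + 2, ?_⟩
    have h1 : t ^ 2 ^ j ∈ N.subgroupOf P := by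
      rw [Subgroup.mem_subgroupOf, Subgroup.coe_pow, ← hj]
      exact Subgroup.pow_index_mem N (t : H)
    have h2 := hf ⟨_, h1⟩
    have h3 := h.four (δ ⟨_, h1⟩)
    rw [← h2, map_pow, ← pow_mul] at h3
    rw [pow_add]
    exact h3
  refine OddExt.of_sup hk N P (h.sup_stab N e) (π₀ := fun t => (f t : ℂ) - 1) ?_ ?_
    (isIrr_comp e.symm.toMonoidHom e.symm.surjective hφ) ?_
  · have h1 := (GC.of_irr (Characters.Linear.isIrrCharacter_hom f)).sub
      (GC.of_irr (Characters.Linear.isIrrCharacter_hom (1 : P →* ℂˣ)))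
    have h2 : (fun t : P => (f t : ℂ) - 1) = (fun t => (f t : ℂ)) - fun t => (((1 : P →* ℂˣ) t : ℂˣ) : ℂ) := by
      funext t
      simp
    rw [h2]
    exact h1
  · intro t
    show (f (t ^ k) : ℂ) - 1 = (f t : ℂ) - 1
    rw [hfk]
  · have h1 : classInner (fun d : N.subgroupOf P => (f (d : P) : ℂ) - 1)
        (fun d : N.subgroupOf P => φ (e.symm ⟨((d : P) : H), Subgroup.mem_subgroupOf.1 d.2⟩)) =
        classInner (Psi lam) φ := by
      rw [show classInner (Psi lam) φ = classInner (eta lam) (fun t : T => φ t) from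
        Cfsg.Agent.OddOrderCharacters.Clifford.classInner_indFun T (eta lam) φ (isIrr_isClassFunction hφ),
        ← classInner_equiv (Equiv.ofBijective δ hbij) (eta lam) (fun t : T => φ t)]
      congr 1
      funext d
      show (f (d : P) : ℂ) - 1 = (lam (δ d) : ℂ) - 1
      rw [hf]
    have h2 : mu (fun d : N.subgroupOf P => (f (d : P) : ℂ) - 1)
        (fun d : N.subgroupOf P => φ (e.symm ⟨((d : P) : H), Subgroup.mem_subgroupOf.1 d.2⟩)) =
        mu (Psi lam) φ := by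
      rw [mu, mu, h1]
    exact h2 ▸ hodd

end ext

include h in
/-- **The character.** -/
theorem exists_rphi : ∃ φ : S → ℂ, RPhi S φ := by
  obtain ⟨φ, h1, h2, h3, h4⟩ := exists_phi (gc_Psi lam) h.norm h.inner_one Psi_one h.Psi_odd
  refine ⟨φ, φ.2, h1, ?_, ?_, h2, ?_⟩
  · intro k hk
    refine h4 (fun g => g ^ k) (fun g => ⟨g ^ k, hk.pow_pow g⟩) (fun χ hχ => ?_)
      (fun g => h.Psi_pow hk g)
    exact Cfsg.Agent.OddOrderCharacters.GaloisTwist.isIrrCharacter_pow hk.coprime hχ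
  · intro a
    funext g
    exact h4 a a.surjective (fun χ hχ => isIrr_comp a.toMonoidHom a.surjective hχ)
      (fun g => h.Psi_aut a g) g
  · intro H _ _ N _ _ e _ hcyc hidx k hk
    exact h.oddExt N e hcyc hidx hk φ.2 h3

include h in
theorem evenJ : EvenJ S := by
  obtain ⟨φ, hφ⟩ := h.exists_rphi
  exact hφ.evenJ

end TI

end Cfsg.Agent.H497.EB
end

private theorem dce_9b5a9de19710 : _root_.True := by
  try have : _root_.True := by simp only [_root_.Cfsg.Agent.H497.EB.TI.FF.eq_1]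
  try have : _root_.True := by simp only [_root_.Cfsg.Agent.H497.EB.eta.eq_1]
  exact _root_.True.intro
end

-- part: H497/EB/Rows
section
prune_inst 0x10000101042202000004000040002000410001000000000000060000000080000000000000800000000000000000000811000000020000000000040000000000808000000000000004000f000004000000000000000000000000000000000000000000000
set_option linter.all false
open scoped Cfsg.Agent.FastGrp

-- part: H497/EB/MC
section
/-!
# Sylow 2-subgroups of maximal class of order at least 16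

`MC P σ y n u`: the Sylow 2-subgroup `P` of `S` has order `2 ^ (n + 1)`, `n ≥ 3`, and contains `σ` of order `2 ^ n`,
`y` with `y σ y⁻¹ = σ ^ u`, `u = 3 mod 4` (dihedral, semidihedral or quaternion). Then `T = C(σ ^ 2)` has a linear
character of order 4 as in `TI`, hence `EvenJ S` (`MC.evenJ`).
-/

set_option autoImplicit false
set_option linter.unusedSectionVars false
set_option linter.style.haveILetI false

namespace Cfsg.Agent.H497.EB

open Cfsg Subgroup Cfsg.Agent.H684.EB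

universe u

/-- A Sylow 2-subgroup of maximal class, of order at least 16. -/
structure MC {S : Type u} [Group S] (P : Sylow 2 S) (σ y : S) (n v : ℕ) : Prop where
  hn : 3 ≤ n
  hσ : σ ∈ (P : Subgroup S)
  hy : y ∈ (P : Subgroup S)
  ord : orderOf σ = 2 ^ n
  card : Nat.card (P : Subgroup S) = 2 ^ (n + 1)
  rel : y * σ * y⁻¹ = σ ^ v
  hv : v % 4 = 3

namespace MC

variable {S : Type u} [Group S] [Finite S] {P : Sylow 2 S} {σ y : S} {n v : ℕ} (h : MC P σ y n v)

include h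

theorem zpow_eq_one_iff (c : ℤ) : σ ^ c = 1 ↔ (2 : ℤ) ^ n ∣ c := by
  rw [← orderOf_dvd_iff_zpow_eq_one, h.ord]
  push_cast
  rfl

theorem eight_dvd : (8 : ℤ) ∣ 2 ^ n := by
  obtain ⟨k, hk⟩ := Nat.exists_eq_add_of_le h.hn
  exact ⟨2 ^ k, by rw [hk, pow_add]; norm_num⟩

theorem four_ne : σ ^ 4 ≠ 1 := by
  intro h1
  have h2 := (h.zpow_eq_one_iff 4).1 (by exact_mod_cast h1)
  have h3 := h.eight_dvd.trans h2
  norm_num at h3

theorem pow_ne : σ ^ v ≠ σ := by
  intro h1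
  have h2 : σ ^ ((v : ℤ) - 1) = 1 := by
    rw [zpow_sub, zpow_natCast, h1, zpow_one, mul_inv_cancel]
  have h3 := h.eight_dvd.trans ((h.zpow_eq_one_iff _).1 h2)
  have h4 := h.hv
  omega

/-- elements of `⟨σ⟩` centralized by an element acting like `y` -/
theorem sq_of_comm {x ζ : S} (hx : x * σ * x⁻¹ = σ ^ v) (hζ : ζ ∈ zpowers σ)
    (hc : x * ζ * x⁻¹ = ζ) : ζ ^ 2 = 1 := by
  obtain ⟨c, rfl⟩ := mem_zpowers_iff.1 hζ
  rw [← conj_zpow, hx, ← zpow_natCast, ← zpow_mul] at hc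
  have h1 : σ ^ (c * ((v : ℤ) - 1)) = 1 := by
    have h2 : c * ((v : ℤ) - 1) = (v : ℤ) * c - c := by ring
    rw [h2, zpow_sub, hc, mul_inv_cancel]
  rw [h.zpow_eq_one_iff] at h1
  have h2 : (2 : ℤ) ^ n ∣ 2 * c := by
    obtain ⟨k, hk⟩ : ∃ k : ℤ, (v : ℤ) - 1 = 2 * (2 * k + 1) := ⟨v / 4, by have := h.hv; omega⟩
    rw [hk, show c * (2 * (2 * k + 1)) = (2 * c) * (2 * k + 1) by ring] at h1
    refine IsCoprime.dvd_of_dvd_mul_right ?_ h1
    refine IsCoprime.pow_left ?_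
    exact ⟨-k, 1, by ring⟩
  rw [← zpow_natCast, ← zpow_mul, h.zpow_eq_one_iff, mul_comm]
  exact h2

/-- `⟨σ⟩` has index two in `P` -/
theorem mul_mem_iff {a b : S} (ha : a ∈ (P : Subgroup S)) (hb : b ∈ (P : Subgroup S)) :
    a * b ∈ zpowers σ ↔ (a ∈ zpowers σ ↔ b ∈ zpowers σ) := by
  have hidx : (zpowers (⟨σ, h.hσ⟩ : (P : Subgroup S))).index = 2 := by
    have h1 := Subgroup.card_mul_index (zpowers (⟨σ, h.hσ⟩ : (P : Subgroup S)))
    rw [Nat.card_zpowers, Subgroup.orderOf_mk, h.ord, h.card, pow_succ] at h1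
    exact Nat.eq_of_mul_eq_mul_left (by positivity) h1
  have key : ∀ x (hx : x ∈ (P : Subgroup S)),
      (⟨x, hx⟩ : (P : Subgroup S)) ∈ zpowers (⟨σ, h.hσ⟩ : (P : Subgroup S)) ↔ x ∈ zpowers σ := by
    intro x hx
    rw [mem_zpowers_iff, mem_zpowers_iff]
    constructor
    · rintro ⟨c, hc⟩
      exact ⟨c, congrArg Subtype.val hc⟩
    · rintro ⟨c, hc⟩
      exact ⟨c, Subtype.ext hc⟩
  have h1 := Subgroup.mul_mem_iff_of_index_two hidx (a := ⟨a, ha⟩) (b := ⟨b, hb⟩)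
  rw [key a ha, key b hb] at h1
  rw [← h1, ← key _ (Subgroup.mul_mem _ ha hb)]
  rfl

theorem y_not_mem : y ∉ zpowers σ := by
  intro h1
  obtain ⟨c, rfl⟩ := mem_zpowers_iff.1 h1
  apply h.pow_ne
  rw [← h.rel]
  group

theorem mem_or {x : S} (hx : x ∈ (P : Subgroup S)) : x ∈ zpowers σ ∨ y⁻¹ * x ∈ zpowers σ := by
  by_cases h1 : x ∈ zpowers σ
  · exact Or.inl h1
  · right
    rw [h.mul_mem_iff (inv_mem h.hy) hx, inv_mem_iff]
    exact ⟨fun h2 => absurd h2 h.y_not_mem, fun h2 => absurd h2 h1⟩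

theorem conj_of_not_mem {x : S} (hx : x ∈ (P : Subgroup S)) (hxZ : x ∉ zpowers σ) :
    x * σ * x⁻¹ = σ ^ v := by
  rcases h.mem_or hx with h1 | h1
  · exact absurd h1 hxZ
  · obtain ⟨c, hc⟩ := mem_zpowers_iff.1 h1
    have h2 : x = y * σ ^ c := by rw [hc, mul_inv_cancel_left]
    rw [h2, ← h.rel]
    group

/-- the center of `P` -/
theorem sq_of_center {z : S} (hz : z ∈ (P : Subgroup S)) (h1 : z * σ * z⁻¹ = σ)
    (h2 : y * z * y⁻¹ = z) : z ^ 2 = 1 := by
  by_cases h3 : z ∈ zpowers σ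
  · exact h.sq_of_comm h.rel h3 h2
  · have h4 := h.conj_of_not_mem hz h3
    rw [h1] at h4
    exact absurd h4.symm h.pow_ne

theorem four_of_not_mem {x : S} (hx : x ∈ (P : Subgroup S)) (hxZ : x ∉ zpowers σ) : x ^ 4 = 1 := by
  have h1 := h.conj_of_not_mem hx hxZ
  have h2 : x ^ 2 ∈ zpowers σ := by
    rw [sq, h.mul_mem_iff hx hx]
  have h3 := h.sq_of_comm h1 h2 (by group)
  rw [← h3]
  group

/-! ### The centralizer of `σ ^ 2` -/

theorem sigma_mem : σ ∈ centralizer ({σ ^ 2} : Set S) := by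
  rw [mem_centralizer_singleton_iff]
  group

theorem ord_sq : orderOf (σ ^ 2) = 2 ^ (n - 1) := by
  have hn := h.hn
  rw [orderOf_pow_of_dvd (by norm_num) (by rw [h.ord]; exact dvd_pow_self 2 (by omega)), h.ord]
  obtain ⟨m, rfl⟩ : ∃ m, n = m + 1 := ⟨n - 1, by omega⟩
  rw [pow_succ]
  simp only [_root_.ne_eq, _root_.OfNat.ofNat_ne_zero, _root_.not_false_eq_true, _root_.mul_div_cancel_right₀, _root_.add_tsub_cancel_right]

/-- The Sylow 2-subgroup of the centralizer. -/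
theorem exists_sylow : ∃ Q : Sylow 2 (centralizer ({σ ^ 2} : Set S)),
    (Q : Subgroup (centralizer ({σ ^ 2} : Set S))) = zpowers ⟨σ, h.sigma_mem⟩ := by
  classical
  haveI : Fact (Nat.Prime 2) := ⟨Nat.prime_two⟩
  set T : Subgroup S := centralizer ({σ ^ 2} : Set S) with hT
  have hZ : IsPGroup 2 (zpowers (⟨σ, h.sigma_mem⟩ : T)) := by
    refine IsPGroup.of_card (n := n) ?_
    rw [Nat.card_zpowers, Subgroup.orderOf_mk, h.ord]
  obtain ⟨Q, hQ⟩ := hZ.exists_le_sylow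
  refine ⟨Q, ?_⟩
  obtain ⟨a, ha⟩ := IsPGroup.iff_card.1 Q.isPGroup'
  have hle : n ≤ a := by
    have h1 := Subgroup.card_dvd_of_le hQ
    rw [Nat.card_zpowers, Subgroup.orderOf_mk, h.ord, ha] at h1
    exact (Nat.pow_dvd_pow_iff_le_right (by norm_num)).1 h1
  -- the image in `S`
  have hQ1 : IsPGroup 2 ((Q : Subgroup T).map T.subtype) := Q.isPGroup'.map _
  have hQc : Nat.card ((Q : Subgroup T).map T.subtype) = 2 ^ a := by
    rw [Subgroup.card_map_of_injective T.subtype_injective]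
    exact ha
  obtain ⟨R, hR⟩ := hQ1.exists_le_sylow
  obtain ⟨g, hg⟩ := MulAction.exists_smul_eq S R P
  have hRP : ∀ x : S, x ∈ (R : Subgroup S) → g * x * g⁻¹ ∈ (P : Subgroup S) := by
    intro x hx
    rw [← hg]
    exact Subgroup.smul_mem_pointwise_smul x (MulAut.conj g) R hx
  have hPR : ∀ p : S, p ∈ (P : Subgroup S) → ∃ x ∈ (R : Subgroup S), g * x * g⁻¹ = p := by
    intro p hp
    rw [← hg] at hp
    obtain ⟨x, hx, hxp⟩ := hp
    exact ⟨x, hx, hxp⟩
  have hRc : Nat.card (R : Subgroup S) = 2 ^ (n + 1) := by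
    rw [← h.card]
    exact Nat.card_congr (R.equiv P).toEquiv
  have hle2 : a ≤ n + 1 := by
    have h1 := Subgroup.card_dvd_of_le hR
    rw [hQc, hRc] at h1
    exact (Nat.pow_dvd_pow_iff_le_right (by norm_num)).1 h1
  have han : a = n := by
    by_contra hne
    have h1 : a = n + 1 := by omega
    have h2 : (Q : Subgroup T).map T.subtype = (R : Subgroup S) :=
      Subgroup.eq_of_le_of_card_ge hR (by rw [hQc, hRc, h1])
    -- `g σ² g⁻¹` is central in `P`
    have hcomm : ∀ p ∈ (P : Subgroup S), p * (g * σ ^ 2 * g⁻¹) * p⁻¹ = g * σ ^ 2 * g⁻¹ := by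
      intro p hp
      obtain ⟨x, hx, rfl⟩ := hPR p hp
      rw [← h2] at hx
      obtain ⟨t, -, rfl⟩ := hx
      have h3 := mem_centralizer_singleton_iff.1 t.2
      have h4 : (t : S) * σ ^ 2 * (t : S)⁻¹ = σ ^ 2 := by rw [h3, mul_inv_cancel_right]
      calc g * (t : S) * g⁻¹ * (g * σ ^ 2 * g⁻¹) * (g * (t : S) * g⁻¹)⁻¹
          = g * ((t : S) * σ ^ 2 * (t : S)⁻¹) * g⁻¹ := by group
        _ = _ := by rw [h4]
    have hmem : g * σ ^ 2 * g⁻¹ ∈ (P : Subgroup S) := by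
      apply hRP
      rw [← h2]
      refine ⟨⟨σ, h.sigma_mem⟩ ^ 2, ?_, rfl⟩
      exact Subgroup.pow_mem _ (hQ (mem_zpowers _)) 2
    have h3 := h.sq_of_center hmem (by
      have h4 := hcomm σ h.hσ
      set z := g * σ ^ 2 * g⁻¹ with hz
      have h5 : σ * z = z * σ := by
        calc σ * z = (σ * z * σ⁻¹) * σ := by group
          _ = z * σ := by rw [h4]
      rw [← h5]
      group) (hcomm y h.hy)
    apply h.four_ne
    have h4 : g * σ ^ 4 * g⁻¹ = 1 := by
      rw [← h3, conj_pow, ← pow_mul]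
    have h5 : σ ^ 4 = g⁻¹ * (g * σ ^ 4 * g⁻¹) * g := by group
    rw [h5, h4]
    group
  refine (Subgroup.eq_of_le_of_card_ge hQ ?_).symm
  rw [Nat.card_zpowers, Subgroup.orderOf_mk, h.ord, ← han]
  exact ha.le

/-- 2-elements of `T` are conjugate into `⟨σ⟩` -/
theorem conj_into {x : S} (hx : x ∈ centralizer ({σ ^ 2} : Set S)) (ho : ∃ j : ℕ, orderOf x = 2 ^ j) :
    ∃ g ∈ centralizer ({σ ^ 2} : Set S), ∃ c : ℤ, x = g * σ ^ c * g⁻¹ := by
  classical
  haveI : Fact (Nat.Prime 2) := ⟨Nat.prime_two⟩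
  obtain ⟨j, hj⟩ := ho
  set T : Subgroup S := centralizer ({σ ^ 2} : Set S) with hT
  obtain ⟨Q, hQ⟩ : ∃ Q : Sylow 2 T, (Q : Subgroup T) = zpowers ⟨σ, h.sigma_mem⟩ := h.exists_sylow
  have hZ : IsPGroup 2 (zpowers (⟨x, hx⟩ : T)) := by
    refine IsPGroup.of_card (n := j) ?_
    rw [Nat.card_zpowers, Subgroup.orderOf_mk, hj]
  obtain ⟨R, hR⟩ := hZ.exists_le_sylow
  obtain ⟨g, hg⟩ := MulAction.exists_smul_eq T Q R
  have h1 : (⟨x, hx⟩ : T) ∈ (R : Subgroup T) := hR (mem_zpowers _)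
  rw [← hg] at h1
  obtain ⟨z, hz, hzx⟩ := h1
  have h2 : z ∈ (Q : Subgroup T) := hz
  rw [hQ] at h2
  obtain ⟨c, rfl⟩ := mem_zpowers_iff.1 h2
  refine ⟨g, g.2, c, ?_⟩
  have h3 : g * (⟨σ, h.sigma_mem⟩ : T) ^ c * g⁻¹ = (⟨x, hx⟩ : T) := hzx
  have h4 := congrArg (Subgroup.subtype T) h3
  rw [map_mul, map_mul, map_inv, map_zpow] at h4
  exact h4.symm

/-- characters of 2-power order are determined by the value at `σ` -/
theorem hom_eq_one {A : Type*} [CommGroup A] (f : centralizer ({σ ^ 2} : Set S) →* A)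
    (h4 : ∀ t, f t ^ 4 = 1) (hf : f ⟨σ, h.sigma_mem⟩ = 1) (t : centralizer ({σ ^ 2} : Set S)) : f t = 1 := by
  classical
  haveI := Fintype.ofFinite (centralizer ({σ ^ 2} : Set S))
  obtain ⟨a, b, ha, -, ha2, hb2, hab⟩ := Cfsg.Agent.H610.EB.exists_two_part t
  have hb : f b = 1 := by
    have h1 : f b ^ orderOf b = 1 := by rw [← map_pow, pow_orderOf_eq_one, map_one]
    have h2 : Nat.Coprime 4 (orderOf b) := Nat.Coprime.pow_left 2 (Nat.coprime_two_left.2 hb2)
    exact orderOf_eq_one_iff.1 (Nat.eq_one_of_dvd_coprimes h2 (orderOf_dvd_of_pow_eq_one (h4 b))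
      (orderOf_dvd_of_pow_eq_one h1))
  have ha' : f a = 1 := by
    obtain ⟨j, hj⟩ := ha2
    obtain ⟨g, hg, c, hc⟩ := h.conj_into a.2 ⟨j, by rw [Subgroup.orderOf_coe]; exact hj⟩
    have h1 : a = ⟨g, hg⟩ * ⟨σ, h.sigma_mem⟩ ^ c * ⟨g, hg⟩⁻¹ := Subtype.ext (by
      rw [Subgroup.coe_mul, Subgroup.coe_mul, Subgroup.coe_inv, Subgroup.coe_zpow]
      exact hc)
    rw [h1, map_mul, map_mul, map_inv, map_zpow, hf, one_zpow, mul_one, mul_inv_cancel]
  rw [hab, map_mul, ha', hb, mul_one]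

/-- the character -/
theorem exists_lam : ∃ lam : centralizer ({σ ^ 2} : Set S) →* ℂˣ, (∀ t, lam t ^ 4 = 1) ∧
    lam ⟨σ, h.sigma_mem⟩ ^ 2 ≠ 1 := by
  classical
  haveI : Fact (Nat.Prime 2) := ⟨Nat.prime_two⟩
  set T : Subgroup S := centralizer ({σ ^ 2} : Set S) with hT
  obtain ⟨Q, hQ⟩ : ∃ Q : Sylow 2 T, (Q : Subgroup T) = zpowers ⟨σ, h.sigma_mem⟩ := h.exists_sylow
  set σT : T := ⟨σ, h.sigma_mem⟩ with hσT
  have hσQ : σT ∈ (Q : Subgroup T) := by
    rw [hQ]
    exact mem_zpowers _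
  have hgen : ∀ x : (Q : Subgroup T), x ∈ zpowers (⟨σT, hσQ⟩ : (Q : Subgroup T)) := by
    rintro ⟨x, hx⟩
    have h1 := hx
    rw [hQ] at h1
    obtain ⟨c, hc⟩ := mem_zpowers_iff.1 h1
    exact mem_zpowers_iff.2 ⟨c, Subtype.ext hc⟩
  have hcyc : IsCyclic (Q : Subgroup T) := ⟨⟨_, hgen⟩⟩
  have hordT : orderOf σT = 2 ^ n := by
    rw [hσT, Subgroup.orderOf_mk, h.ord]
  have hmin : (Nat.card T).minFac = 2 := by
    rw [Nat.minFac_eq_two_iff]
    have h1 : 2 ^ n ∣ Nat.card T := by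
      rw [← hordT]
      exact _root_.orderOf_dvd_natCard _
    exact (dvd_pow_self 2 (by have := h.hn; omega)).trans h1
  have hnc := hcyc.normalizer_le_centralizer hmin
  -- a fourth root of unity
  have hI : Units.mk0 Complex.I Complex.I_ne_zero ^ 4 = 1 := by
    apply Units.ext
    simp [Complex.I_pow_four]
  have hI2 : Units.mk0 Complex.I Complex.I_ne_zero ^ 2 = -1 := by
    apply Units.ext
    simp
  have hdvd : orderOf (Units.mk0 Complex.I Complex.I_ne_zero) ∣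
      orderOf (⟨σT, hσQ⟩ : (Q : Subgroup T)) := by
    refine (orderOf_dvd_of_pow_eq_one hI).trans ?_
    rw [Subgroup.orderOf_mk, hordT]
    exact ⟨2 ^ (n - 2), by
      obtain ⟨m, rfl⟩ : ∃ m, n = m + 2 := ⟨n - 2, by have := h.hn; omega⟩
      rw [pow_add]
      norm_num only [_root_.add_tsub_cancel_right]
      ring⟩
  let χ : (Q : Subgroup T) →* ℂˣ := monoidHomOfForallMemZpowers hgen hdvd
  have hχ : χ ⟨σT, hσQ⟩ = Units.mk0 Complex.I Complex.I_ne_zero :=
    monoidHomOfForallMemZpowers_apply_gen hgen hdvd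
  have hχ4 : ∀ x, χ x ^ 4 = 1 := by
    intro x
    obtain ⟨c, rfl⟩ := mem_zpowers_iff.1 (hgen x)
    rw [map_zpow, hχ, ← zpow_natCast, ← zpow_mul, mul_comm, zpow_mul, zpow_natCast, hI, one_zpow]
  refine ⟨χ.comp (MonoidHom.transferSylow Q hnc), fun t => hχ4 _, ?_⟩
  rw [MonoidHom.comp_apply, MonoidHom.transferSylow_eq_pow Q hnc σT hσQ]
  have h1 : (⟨σT ^ (Q : Subgroup T).index, _⟩ : (Q : Subgroup T)) = (⟨σT, hσQ⟩ : (Q : Subgroup T)) ^
      (Q : Subgroup T).index := rfl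
  rw [h1, map_pow, hχ, ← pow_mul, mul_comm, pow_mul, hI2]
  have h2 : Odd (Q : Subgroup T).index := by
    rw [← Nat.not_even_iff_odd, even_iff_two_dvd]
    exact Q.not_dvd_index
  rw [h2.neg_one_pow]
  intro h3
  have h4 := congrArg (Units.val) h3
  norm_num at h4

/-! ### The normalizer of `⟨σ ^ 2⟩` -/

theorem conj_mem_T {x : S} (hx : x ∈ normalizer (zpowers (σ ^ 2) : Set S)) {t : S}
    (ht : t ∈ centralizer ({σ ^ 2} : Set S)) : x * t * x⁻¹ ∈ centralizer ({σ ^ 2} : Set S) := by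
  rw [mem_centralizer_singleton_iff] at ht ⊢
  have h1 : x⁻¹ * σ ^ 2 * x ∈ zpowers (σ ^ 2) := by
    have h2 := (mem_normalizer_iff''.1 hx (σ ^ 2)).1 (mem_zpowers _)
    exact h2
  obtain ⟨c, hc⟩ := mem_zpowers_iff.1 h1
  have h2 : Commute t ((σ ^ 2) ^ c) := (show Commute t (σ ^ 2) from ht).zpow_right c
  rw [hc] at h2
  have h3 : t * (x⁻¹ * σ ^ 2 * x) = x⁻¹ * σ ^ 2 * x * t := h2
  calc x * t * x⁻¹ * σ ^ 2 = x * (t * (x⁻¹ * σ ^ 2 * x)) * x⁻¹ := by group
    _ = x * (x⁻¹ * σ ^ 2 * x * t) * x⁻¹ := by rw [h3]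
    _ = σ ^ 2 * (x * t * x⁻¹) := by group

theorem mem_norm {x : S} (hx : x * σ ^ 2 * x⁻¹ ∈ zpowers (σ ^ 2)) :
    x ∈ normalizer (zpowers (σ ^ 2) : Set S) := by
  apply mem_normalizer_fintype
  rintro z hz
  obtain ⟨c, rfl⟩ := mem_zpowers_iff.1 hz
  show x * (σ ^ 2) ^ c * x⁻¹ ∈ zpowers (σ ^ 2)
  rw [← conj_zpow]
  exact zpow_mem hx c

theorem sigma_norm : σ ∈ normalizer (zpowers (σ ^ 2) : Set S) := by
  apply h.mem_norm
  have h1 : σ * σ ^ 2 * σ⁻¹ = σ ^ 2 := by group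
  rw [h1]
  exact mem_zpowers _

theorem y_norm : y ∈ normalizer (zpowers (σ ^ 2) : Set S) := by
  apply h.mem_norm
  have h1 : y * σ ^ 2 * y⁻¹ = (σ ^ 2) ^ v := by
    rw [← conj_pow, h.rel, ← pow_mul, ← pow_mul, mul_comm]
  rw [h1]
  exact npow_mem_zpowers _ _

theorem P_le : (P : Subgroup S) ≤ normalizer (zpowers (σ ^ 2) : Set S) := by
  intro x hx
  have hZ : zpowers σ ≤ normalizer (zpowers (σ ^ 2) : Set S) := by
    rw [zpowers_le]
    exact h.sigma_norm
  rcases h.mem_or hx with h1 | h1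
  · exact hZ h1
  · have h2 := mul_mem h.y_norm (hZ h1)
    rwa [mul_inv_cancel_left] at h2

/-- **The normalizer.** -/
theorem norm_cases {x : S} (hx : x ∈ normalizer (zpowers (σ ^ 2) : Set S)) :
    x ∈ centralizer ({σ ^ 2} : Set S) ∨ y⁻¹ * x ∈ centralizer ({σ ^ 2} : Set S) := by
  classical
  haveI : Fact (Nat.Prime 2) := ⟨Nat.prime_two⟩
  set N : Subgroup S := normalizer (zpowers (σ ^ 2) : Set S) with hN
  set T : Subgroup S := centralizer ({σ ^ 2} : Set S) with hT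
  have hTc : T = centralizer (zpowers (σ ^ 2) : Set S) := by
    rw [hT]
    apply le_antisymm
    · intro t ht
      rw [mem_centralizer_iff]
      intro z hz
      obtain ⟨c, rfl⟩ := mem_zpowers_iff.1 hz
      exact ((show Commute t (σ ^ 2) from mem_centralizer_singleton_iff.1 ht).zpow_right c).symm
    · intro t ht
      rw [mem_centralizer_singleton_iff]
      exact (mem_centralizer_iff.1 ht (σ ^ 2) (mem_zpowers _)).symm
  haveI hTn : (T.subgroupOf N).Normal := ⟨fun t ht g => by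
    rw [mem_subgroupOf] at ht ⊢
    exact h.conj_mem_T g.2 ht⟩
  have hidx : ∃ j : ℕ, (T.subgroupOf N).index = 2 ^ j := by
    have h1 := card_dvd_of_injective _ (QuotientGroup.kerLift_injective
      (normalizerMonoidHom (zpowers (σ ^ 2))))
    rw [normalizerMonoidHom_ker, ← hTc] at h1
    have hcyc : IsCyclic (zpowers (σ ^ 2)) := inferInstance
    rw [hcyc.card_mulAut, Nat.card_zpowers, h.ord_sq, Nat.totient_prime_pow Nat.prime_two
      (by have := h.hn; omega)] at h1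
    have h2 : (T.subgroupOf N).index ∣ 2 ^ (n - 1 - 1) := by
      have h3 : 2 ^ (n - 1 - 1) * (2 - 1) = 2 ^ (n - 1 - 1) := by norm_num
      rw [h3] at h1
      exact h1
    obtain ⟨i, -, hi⟩ := (Nat.dvd_prime_pow Nat.prime_two).1 h2
    exact ⟨i, hi⟩
  haveI := Fintype.ofFinite N
  have htop := Cfsg.Agent.H610.EB.sup_sylow (T.subgroupOf N) hidx (P.subtype h.P_le)
  have h1 : (⟨x, hx⟩ : N) ∈ T.subgroupOf N ⊔ ((P.subtype h.P_le : Sylow 2 N) : Subgroup N) := by
    rw [htop]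
    exact mem_top _
  obtain ⟨t, ht, p, hp, htp⟩ := Subgroup.mem_sup_of_normal_left.1 h1
  have ht' : (t : S) ∈ T := ht
  have hp' : (p : S) ∈ (P : Subgroup S) := hp
  have hxe : x = (t : S) * p := (congrArg Subtype.val htp).symm
  have hZT : zpowers σ ≤ T := by
    rw [zpowers_le]
    exact h.sigma_mem
  rcases h.mem_or hp' with h2 | h2
  · left
    rw [hxe]
    exact mul_mem ht' (hZT h2)
  · right
    have h3 : y⁻¹ * x = (y⁻¹ * t * y⁻¹⁻¹) * (y⁻¹ * p) := by
      rw [hxe]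
      group
    rw [h3]
    exact mul_mem (h.conj_mem_T (inv_mem h.y_norm) ht') (hZT h2)

/-- elements of `⟨σ⟩` outside `⟨σ ^ 4⟩` -/
theorem exists_zpow {c : ℤ} (hc : ¬ (4 : ℤ) ∣ c) : ∃ d : ℤ, (σ ^ c) ^ d = σ ^ 2 := by
  -- `c d = 2` modulo `2 ^ n`
  have key : ∃ d k : ℤ, c * d = 2 + 2 ^ n * k := by
    rcases Int.even_or_odd c with ⟨b, hb⟩ | hc1
    · have hb1 : Odd b := by
        rw [← Int.not_even_iff_odd]
        rintro ⟨a, ha⟩
        apply hc
        exact ⟨a, by omega⟩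
      have h1 : IsCoprime b (2 ^ n) := by
        refine IsCoprime.pow_right ?_
        obtain ⟨a, ha⟩ := hb1
        exact ⟨1, -a, by rw [ha]; ring⟩
      obtain ⟨p, q, hpq⟩ := h1
      refine ⟨p, -(2 * q), ?_⟩
      rw [hb]
      linear_combination 2 * hpq
    · have h1 : IsCoprime c (2 ^ n) := by
        refine IsCoprime.pow_right ?_
        obtain ⟨a, ha⟩ := hc1
        exact ⟨1, -a, by rw [ha]; ring⟩
      obtain ⟨p, q, hpq⟩ := h1
      refine ⟨2 * p, -(2 * q), ?_⟩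
      linear_combination 2 * hpq
  obtain ⟨d, k, hk⟩ := key
  refine ⟨d, ?_⟩
  rw [← zpow_mul, hk, zpow_add, (h.zpow_eq_one_iff _).2 ⟨k, rfl⟩, mul_one]
  norm_cast

/-- elements of `⟨σ⟩` of order dividing `2 ^ (n - 1)` -/
theorem mem_zpowers_sq {c : ℤ} (hc : (σ ^ c) ^ 2 ^ (n - 1) = 1) : σ ^ c ∈ zpowers (σ ^ 2) := by
  rw [← zpow_natCast, ← zpow_mul, h.zpow_eq_one_iff] at hc
  push_cast at hc
  obtain ⟨m, hm⟩ : ∃ m, n = m + 1 := ⟨n - 1, by have := h.hn; omega⟩
  rw [hm, Nat.add_sub_cancel, pow_succ, mul_comm ((2 : ℤ) ^ m) 2] at hc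
  have h1 : (2 : ℤ) ∣ c := Int.dvd_of_mul_dvd_mul_right (by positivity) hc
  obtain ⟨d, rfl⟩ := h1
  refine mem_zpowers_iff.2 ⟨d, ?_⟩
  rw [← zpow_natCast, ← zpow_mul]
  norm_cast

local notation "Tσ" => centralizer ({σ ^ 2} : Set S)

/-- **Fusion.** -/
theorem fusion {lam : Tσ →* ℂˣ} (h4 : ∀ t, lam t ^ 4 = 1) (x : S)
    (t t' : Tσ) (htt : (t' : S) = x * t * x⁻¹) (h1 : lam t ≠ 1)
    (h2 : lam t' ≠ 1) : x ∈ Tσ ∨ y⁻¹ * x ∈ Tσ := by
  classical
  haveI := Fintype.ofFinite (Tσ)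
  obtain ⟨a, b, ha, hb, ha2, hb2, hab⟩ := Cfsg.Agent.H610.EB.exists_two_part t
  obtain ⟨i, hi⟩ := mem_zpowers_iff.1 ha
  obtain ⟨j, hj⟩ := mem_zpowers_iff.1 hb
  have hodd1 : ∀ b : Tσ, Odd (orderOf b) → lam b = 1 := by
    intro b hb2
    have h1 : lam b ^ orderOf b = 1 := by rw [← map_pow, pow_orderOf_eq_one, map_one]
    have h2 : Nat.Coprime 4 (orderOf b) := Nat.Coprime.pow_left 2 (Nat.coprime_two_left.2 hb2)
    exact orderOf_eq_one_iff.1 (Nat.eq_one_of_dvd_coprimes h2 (orderOf_dvd_of_pow_eq_one (h4 b))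
      (orderOf_dvd_of_pow_eq_one h1))
  have hord : ∀ (k : ℤ), orderOf (t' ^ k) = orderOf (t ^ k) := by
    intro k
    rw [← Subgroup.orderOf_coe, ← Subgroup.orderOf_coe, Subgroup.coe_zpow, Subgroup.coe_zpow, htt,
      conj_zpow]
    have h5 := orderOf_injective (MulAut.conj x).toMonoidHom (MulAut.conj x).injective ((t : S) ^ k)
    exact h5
  have hla : lam a ≠ 1 := by
    intro h5
    apply h1
    rw [hab, map_mul, h5, hodd1 b hb2, one_mul]
  have hla' : lam (t' ^ i) ≠ 1 := by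
    intro h5
    apply h2
    have h6 : t' = t' ^ i * t' ^ j := by
      apply Subtype.ext
      have h7 : (t : S) = (t : S) ^ i * (t : S) ^ j := by
        have h8 := hab
        rw [← hi, ← hj] at h8
        exact congrArg Subtype.val h8
      rw [Subgroup.coe_mul, Subgroup.coe_zpow, Subgroup.coe_zpow, htt, conj_zpow, conj_zpow]
      conv_lhs => rw [h7]
      group
    rw [h6, map_mul, h5, one_mul]
    apply hodd1
    rw [hord j, hj]
    exact hb2
  obtain ⟨r, hr⟩ := ha2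
  obtain ⟨g, hg, c, hc⟩ := h.conj_into a.2 ⟨r, by rw [Subgroup.orderOf_coe]; exact hr⟩
  obtain ⟨g', hg', c', hc'⟩ := h.conj_into (t' ^ i).2 ⟨r, by
    rw [Subgroup.orderOf_coe, hord i, hi]; exact hr⟩
  have hlc : ∀ (s : Tσ) (g : S) (hg : g ∈ Tσ) (c : ℤ), (s : S) = g * σ ^ c * g⁻¹ → lam s ≠ 1 →
      ¬ (4 : ℤ) ∣ c := by
    rintro s g hg c hs hls ⟨d, rfl⟩
    apply hls
    have h5 : s = ⟨g, hg⟩ * (⟨σ, h.sigma_mem⟩ : Tσ) ^ (4 * d) * ⟨g, hg⟩⁻¹ := Subtype.ext (by
      rw [Subgroup.coe_mul, Subgroup.coe_mul, Subgroup.coe_inv, Subgroup.coe_zpow]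
      exact hs)
    rw [h5, map_mul, map_mul, map_inv, map_zpow, zpow_mul, show lam (⟨σ, h.sigma_mem⟩ : Tσ) ^ (4 : ℤ) = 1
      from by exact_mod_cast h4 _, one_zpow, mul_one, mul_inv_cancel]
  have hc4 := hlc a g hg c hc hla
  have hcc : x * (g * σ ^ c * g⁻¹) * x⁻¹ = g' * σ ^ c' * g'⁻¹ := by
    rw [← hc, ← hc', ← hi, Subgroup.coe_zpow, Subgroup.coe_zpow, htt, conj_zpow]
  -- `z = g'⁻¹ x g`
  set z : S := g'⁻¹ * x * g with hz
  have hzc : z * σ ^ c * z⁻¹ = σ ^ c' := by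
    rw [hz]
    calc g'⁻¹ * x * g * σ ^ c * (g'⁻¹ * x * g)⁻¹ = g'⁻¹ * (x * (g * σ ^ c * g⁻¹) * x⁻¹) * g' := by group
      _ = g'⁻¹ * (g' * σ ^ c' * g'⁻¹) * g' := by rw [hcc]
      _ = σ ^ c' := by group
  obtain ⟨d, hd⟩ := h.exists_zpow hc4
  have hzN : z ∈ normalizer (zpowers (σ ^ 2) : Set S) := by
    apply h.mem_norm
    have h5 : z * σ ^ 2 * z⁻¹ = σ ^ (c' * d) := by
      rw [← hd, ← conj_zpow, hzc, zpow_mul]
    rw [h5]
    apply h.mem_zpowers_sq
    rw [← h5, conj_pow, ← h.ord_sq, pow_orderOf_eq_one]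
    group
  have hxz : x = g' * z * g⁻¹ := by
    rw [hz]
    group
  rcases h.norm_cases hzN with h5 | h5
  · left
    rw [hxz]
    exact mul_mem (mul_mem hg' h5) (inv_mem hg)
  · right
    have h6 : y⁻¹ * x = (y⁻¹ * g' * y⁻¹⁻¹) * (y⁻¹ * z) * g⁻¹ := by
      rw [hxz]
      group
    rw [h6]
    exact mul_mem (mul_mem (h.conj_mem_T (inv_mem h.y_norm) hg') h5) (inv_mem hg)

/-- inversion by `y` -/
theorem inversion {lam : Tσ →* ℂˣ} (h4 : ∀ t, lam t ^ 4 = 1)
    (t : Tσ) (hm : y * t * y⁻¹ ∈ Tσ) :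
    lam ⟨y * t * y⁻¹, hm⟩ = (lam t)⁻¹ := by
  let c : Tσ →* Tσ :=
    { toFun := fun t => ⟨y * t * y⁻¹, h.conj_mem_T h.y_norm t.2⟩
      map_one' := Subtype.ext (by simp)
      map_mul' := fun s t => Subtype.ext (by
        show y * ((s : S) * t) * y⁻¹ = y * s * y⁻¹ * (y * t * y⁻¹)
        group) }
  have h1 := h.hom_eq_one ((lam.comp c) * lam) (fun t => by
    rw [MonoidHom.mul_apply, mul_pow, MonoidHom.comp_apply, h4, h4, one_mul]) (by
    rw [MonoidHom.mul_apply, MonoidHom.comp_apply]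
    have h2 : c ⟨σ, h.sigma_mem⟩ = (⟨σ, h.sigma_mem⟩ : Tσ) ^ v := Subtype.ext (by
      show y * σ * y⁻¹ = _
      rw [h.rel]
      rfl)
    rw [h2, map_pow, ← pow_succ]
    obtain ⟨k, hk⟩ : ∃ k, v + 1 = 4 * k := ⟨v / 4 + 1, by have := h.hv; omega⟩
    rw [hk, pow_mul, h4, one_pow]) t
  rw [MonoidHom.mul_apply, MonoidHom.comp_apply] at h1
  exact eq_inv_of_mul_eq_one_left h1

/-- **Automorphisms.** -/
theorem auto {lam : Tσ →* ℂˣ} (h4 : ∀ t, lam t ^ 4 = 1) (a : S ≃* S) :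
    ∃ s : S, ∀ t : Tσ, ∃ t' : Tσ,
      (t' : S) = s * a t * s⁻¹ ∧ lam t' = lam t := by
  classical
  haveI : Fact (Nat.Prime 2) := ⟨Nat.prime_two⟩
  -- move `a P` to `P`
  have hP1 : IsPGroup 2 ((P : Subgroup S).map a.toMonoidHom) := P.isPGroup'.map _
  obtain ⟨R, hR⟩ := hP1.exists_le_sylow
  obtain ⟨g, hg⟩ := MulAction.exists_smul_eq S R P
  have hgP : ∀ x ∈ (P : Subgroup S), g * a x * g⁻¹ ∈ (P : Subgroup S) := by
    intro x hx
    rw [← hg]
    exact Subgroup.smul_mem_pointwise_smul (a x) (MulAut.conj g) R (hR ⟨x, hx, rfl⟩)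
  have hmem := hgP σ h.hσ
  have hZ : g * a σ * g⁻¹ ∈ zpowers σ := by
    by_contra hcon
    have h1 := h.four_of_not_mem hmem hcon
    apply h.four_ne
    rw [conj_pow, ← map_pow] at h1
    have h2 : a (σ ^ 4) = 1 := by
      calc a (σ ^ 4) = g⁻¹ * (g * a (σ ^ 4) * g⁻¹) * g := by group
        _ = 1 := by rw [h1]; group
    exact (map_eq_one_iff a a.injective).1 h2
  obtain ⟨c, hc⟩ := mem_zpowers_iff.1 hZ
  -- `c` is odd
  have hodd : Odd c := by
    rw [← Int.not_even_iff_odd]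
    rintro ⟨d, hd⟩
    have h1 : (g * a σ * g⁻¹) ^ 2 ^ (n - 1) = 1 := by
      rw [← hc, ← zpow_natCast, ← zpow_mul, h.zpow_eq_one_iff, hd]
      push_cast
      refine ⟨d, ?_⟩
      obtain ⟨m, hm⟩ : ∃ m, n = m + 1 := ⟨n - 1, by have := h.hn; omega⟩
      rw [hm, Nat.add_sub_cancel, pow_succ]
      ring
    rw [conj_pow, ← map_pow] at h1
    have h2 : a (σ ^ 2 ^ (n - 1)) = 1 := by
      calc a (σ ^ 2 ^ (n - 1)) = g⁻¹ * (g * a (σ ^ 2 ^ (n - 1)) * g⁻¹) * g := by group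
        _ = 1 := by rw [h1]; group
    have h3 : σ ^ 2 ^ (n - 1) = 1 := (map_eq_one_iff a a.injective).1 h2
    have h5 := orderOf_dvd_of_pow_eq_one h3
    rw [h.ord, Nat.pow_dvd_pow_iff_le_right (by norm_num)] at h5
    have := h.hn
    omega
  -- the automorphism preserves `Tσ`
  have hT1 : ∀ t ∈ Tσ, g * a t * g⁻¹ ∈ Tσ := by
    intro t ht
    rw [mem_centralizer_singleton_iff] at ht ⊢
    obtain ⟨d, hd⟩ := h.exists_zpow (c := 2 * c) (by
      obtain ⟨k, hk⟩ := hodd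
      omega)
    have h1 : Commute (g * a t * g⁻¹) (g * a (σ ^ 2) * g⁻¹) := by
      show g * a t * g⁻¹ * (g * a (σ ^ 2) * g⁻¹) = g * a (σ ^ 2) * g⁻¹ * (g * a t * g⁻¹)
      have h2 : a t * a (σ ^ 2) = a (σ ^ 2) * a t := by rw [← map_mul, ht, map_mul]
      calc g * a t * g⁻¹ * (g * a (σ ^ 2) * g⁻¹) = g * (a t * a (σ ^ 2)) * g⁻¹ := by group
        _ = g * (a (σ ^ 2) * a t) * g⁻¹ := by rw [h2]
        _ = _ := by group
    have h2 : g * a (σ ^ 2) * g⁻¹ = σ ^ (2 * c) := by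
      rw [map_pow, ← conj_pow, ← hc, ← zpow_natCast, ← zpow_mul, mul_comm]
      norm_cast
    rw [h2] at h1
    have h3 := h1.zpow_right d
    rw [hd] at h3
    exact h3
  let α : Tσ →* Tσ :=
    { toFun := fun t => ⟨g * a t * g⁻¹, hT1 t t.2⟩
      map_one' := Subtype.ext (by simp only [_root_.OneMemClass.coe_one, _root_.map_one, _root_.mul_one, _root_.mul_inv_cancel])
      map_mul' := fun s t => Subtype.ext (by
        show g * a ((s : S) * t) * g⁻¹ = g * a s * g⁻¹ * (g * a t * g⁻¹)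
        rw [map_mul]
        group) }
  have hασ : α ⟨σ, h.sigma_mem⟩ = (⟨σ, h.sigma_mem⟩ : Tσ) ^ c := Subtype.ext (by
    show g * a σ * g⁻¹ = _
    rw [← hc]
    rfl)
  have hinv4 : ∀ z : ℂˣ, z ^ 4 = 1 → z⁻¹ ^ 4 = 1 := fun z hz => by rw [inv_pow, hz, inv_one]
  have hz4 : ∀ (z : ℂˣ) (k : ℤ), z ^ 4 = 1 → z ^ (4 * k) = 1 := by
    intro z k hz
    rw [zpow_mul, show z ^ (4 : ℤ) = 1 from by exact_mod_cast hz, one_zpow]
  have hcase : (4 : ℤ) ∣ c - 1 ∨ (4 : ℤ) ∣ c + 1 := by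
    obtain ⟨k, hk⟩ := hodd
    omega
  rcases hcase with ⟨k, hk⟩ | ⟨k, hk⟩
  · refine ⟨g, fun t => ⟨α t, rfl, ?_⟩⟩
    have h1 := h.hom_eq_one ((lam.comp α) * lam⁻¹) (fun t => by
      rw [MonoidHom.mul_apply, mul_pow, MonoidHom.comp_apply, MonoidHom.inv_apply, h4,
        hinv4 _ (h4 _), one_mul]) (by
      rw [MonoidHom.mul_apply, MonoidHom.comp_apply, MonoidHom.inv_apply, hασ, map_zpow,
        ← zpow_sub_one, hk, hz4 _ _ (h4 _)]) t
    rw [MonoidHom.mul_apply, MonoidHom.comp_apply, MonoidHom.inv_apply] at h1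
    exact mul_inv_eq_one.1 h1
  · refine ⟨y * g, fun t => ⟨⟨y * α t * y⁻¹, h.conj_mem_T h.y_norm (α t).2⟩, ?_, ?_⟩⟩
    · show y * (g * a t * g⁻¹) * y⁻¹ = y * g * a t * (y * g)⁻¹
      group
    · rw [h.inversion h4]
      have h1 := h.hom_eq_one ((lam.comp α) * lam) (fun t => by
        rw [MonoidHom.mul_apply, mul_pow, MonoidHom.comp_apply, h4, h4, one_mul]) (by
        rw [MonoidHom.mul_apply, MonoidHom.comp_apply, hασ, map_zpow, ← zpow_add_one, hk,
          hz4 _ _ (h4 _)]) t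
      rw [MonoidHom.mul_apply, MonoidHom.comp_apply] at h1
      exact inv_eq_of_mul_eq_one_right h1

end MC

/-- **The TI data.** -/
theorem MC.exists_ti {S : Type u} [Group S] [Fintype S] {P : Sylow 2 S} {σ y : S} {n v : ℕ}
    (h : MC P σ y n v) : ∃ lam : centralizer ({σ ^ 2} : Set S) →* ℂˣ,
      TI (centralizer ({σ ^ 2} : Set S)) lam y := by
  obtain ⟨lam, h4, h2⟩ := h.exists_lam
  exact ⟨lam, {
    four := h4
    two := ⟨_, h2⟩
    inv := fun t => ⟨⟨y * t * y⁻¹, h.conj_mem_T h.y_norm t.2⟩, rfl, h.inversion h4 t _⟩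
    ti := fun x t t' htt h1 h3 => h.fusion h4 x t t' htt h1 h3
    aut := fun a => h.auto h4 a }⟩

/-- **Maximal class, order at least 16.** -/
theorem MC.evenJ {S : Type u} [Group S] [Fintype S] {P : Sylow 2 S} {σ y : S} {n v : ℕ}
    (h : MC P σ y n v) : EvenJ S := by
  obtain ⟨lam, hlam⟩ := h.exists_ti
  exact hlam.evenJ

/-- **Quasidihedral Sylow 2-subgroups.** -/
theorem evenJ_of_qd {S : Type u} [Group S] [Fintype S] (P : Sylow 2 S)
    (hP : IsQuasiDihedral (P : Subgroup S)) : EvenJ S := by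
  obtain ⟨n, hn, hc, x, y, hx, hy, hxy⟩ := hP
  have h1 : MC P (x : S) (y : S) n (2 ^ (n - 1) - 1) := {
    hn := hn
    hσ := x.2
    hy := y.2
    ord := by rw [Subgroup.orderOf_coe, hx]
    card := hc
    rel := congrArg Subtype.val hxy
    hv := by
      obtain ⟨k, rfl⟩ : ∃ k, n = k + 3 := ⟨n - 3, by omega⟩
      have h2 : 2 ^ (k + 3 - 1) = 4 * 2 ^ k := by
        rw [show k + 3 - 1 = k + 2 from rfl, pow_add]
        ring
      have h3 : 0 < 2 ^ k := by positivity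
      omega }
  exact h1.evenJ

/-- **Dihedral Sylow 2-subgroups of order at least 16.** -/
theorem evenJ_of_dihedral {S : Type u} [Group S] [Fintype S] (P : Sylow 2 S) {n : ℕ} (hn : 3 ≤ n)
    (e : (P : Subgroup S) ≃* DihedralGroup (2 ^ n)) : EvenJ S := by
  set x := e.symm (DihedralGroup.r 1) with hx
  set y := e.symm (DihedralGroup.sr 0) with hy
  have ho : orderOf x = 2 ^ n := by
    rw [hx, MulEquiv.orderOf_eq e.symm]
    exact DihedralGroup.orderOf_r_one
  have hc : Nat.card (P : Subgroup S) = 2 ^ (n + 1) := by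
    rw [Nat.card_congr e.toEquiv, DihedralGroup.nat_card]
    ring
  have hrel : y * x * y⁻¹ = x ^ (2 ^ n - 1) := by
    apply e.injective
    rw [map_mul, map_mul, map_inv, map_pow, hx, hy, MulEquiv.apply_symm_apply,
      MulEquiv.apply_symm_apply, DihedralGroup.r_one_pow]
    rw [DihedralGroup.inv_sr, DihedralGroup.sr_mul_r, DihedralGroup.sr_mul_sr]
    congr 1
    have h1 : 1 ≤ 2 ^ n := Nat.one_le_two_pow
    rw [Nat.cast_sub h1]
    simp
  have h1 : MC P (x : S) (y : S) n (2 ^ n - 1) := {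
    hn := hn
    hσ := x.2
    hy := y.2
    ord := by rw [Subgroup.orderOf_coe, ho]
    card := hc
    rel := congrArg Subtype.val hrel
    hv := by
      obtain ⟨k, rfl⟩ : ∃ k, n = k + 2 := ⟨n - 2, by omega⟩
      have h2 : 2 ^ (k + 2) = 4 * 2 ^ k := by
        rw [pow_add]
        ring
      have h3 : 0 < 2 ^ k := by positivity
      omega }
  exact h1.evenJ

end Cfsg.Agent.H497.EB
end

-- part: H497/EB/D8
section
/-!
# Dihedral Sylow 2-subgroups of order 8, with a small involution centralizer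

`D8 P σ y`: the Sylow 2-subgroup `P` of `S` is dihedral of order 8, `σ ∈ P` has order 4, `y ∈ P` is an involution
inverting `σ`, and `C(σ ^ 2) = C(σ) ∪ y C(σ)` (this holds in the groups `PSL₂(q)`). Then `C(σ)` has a linear
character of order 4 as in `TI`, hence `EvenJ S` (`D8.evenJ`).
-/

set_option autoImplicit false
set_option linter.unusedSectionVars false
set_option linter.style.haveILetI false

namespace Cfsg.Agent.H497.EB

open Cfsg Subgroup Cfsg.Agent.H684.EB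

universe u

/-- Dihedral Sylow 2-subgroups of order 8, small centralizer. -/
structure D8 {S : Type u} [Group S] (P : Sylow 2 S) (σ y : S) : Prop where
  hσ : σ ∈ (P : Subgroup S)
  hy : y ∈ (P : Subgroup S)
  ord : orderOf σ = 4
  card : Nat.card (P : Subgroup S) = 8
  rel : y * σ * y⁻¹ = σ ^ 3
  ysq : y ^ 2 = 1
  cent : ∀ x : S, x * σ ^ 2 = σ ^ 2 * x → x ∈ centralizer ({σ} : Set S) ∨ y⁻¹ * x ∈ centralizer ({σ} : Set S)

namespace D8

variable {S : Type u} [Group S] [Finite S] {P : Sylow 2 S} {σ y : S} (h : D8 P σ y)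

include h

theorem zpow_eq_one_iff (c : ℤ) : σ ^ c = 1 ↔ (4 : ℤ) ∣ c := by
  rw [← orderOf_dvd_iff_zpow_eq_one, h.ord]
  rfl

theorem two_ne : σ ^ 2 ≠ 1 := by
  intro h1
  have h2 := (h.zpow_eq_one_iff 2).1 (by exact_mod_cast h1)
  norm_num at h2

theorem four_eq : σ ^ 4 = 1 := by
  rw [← h.ord, pow_orderOf_eq_one]

theorem pow_ne : σ ^ 3 ≠ σ := by
  intro h1
  apply h.two_ne
  have h2 : σ ^ 3 = σ ^ 2 * σ := by rw [← pow_succ]
  rw [h2] at h1
  exact mul_eq_right.1 h1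

/-- `⟨σ⟩` has index two in `P` -/
theorem mul_mem_iff {a b : S} (ha : a ∈ (P : Subgroup S)) (hb : b ∈ (P : Subgroup S)) :
    a * b ∈ zpowers σ ↔ (a ∈ zpowers σ ↔ b ∈ zpowers σ) := by
  have hidx : (zpowers (⟨σ, h.hσ⟩ : (P : Subgroup S))).index = 2 := by
    have h1 := Subgroup.card_mul_index (zpowers (⟨σ, h.hσ⟩ : (P : Subgroup S)))
    rw [Nat.card_zpowers, Subgroup.orderOf_mk, h.ord, h.card] at h1
    omega
  have key : ∀ x (hx : x ∈ (P : Subgroup S)),
      (⟨x, hx⟩ : (P : Subgroup S)) ∈ zpowers (⟨σ, h.hσ⟩ : (P : Subgroup S)) ↔ x ∈ zpowers σ := by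
    intro x hx
    rw [mem_zpowers_iff, mem_zpowers_iff]
    constructor
    · rintro ⟨c, hc⟩
      exact ⟨c, congrArg Subtype.val hc⟩
    · rintro ⟨c, hc⟩
      exact ⟨c, Subtype.ext hc⟩
  have h1 := Subgroup.mul_mem_iff_of_index_two hidx (a := ⟨a, ha⟩) (b := ⟨b, hb⟩)
  rw [key a ha, key b hb] at h1
  rw [← h1, ← key _ (Subgroup.mul_mem _ ha hb)]
  rfl

theorem y_not_mem : y ∉ zpowers σ := by
  intro h1
  obtain ⟨c, rfl⟩ := mem_zpowers_iff.1 h1
  apply h.pow_ne
  rw [← h.rel]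
  group

theorem mem_or {x : S} (hx : x ∈ (P : Subgroup S)) : x ∈ zpowers σ ∨ y⁻¹ * x ∈ zpowers σ := by
  by_cases h1 : x ∈ zpowers σ
  · exact Or.inl h1
  · right
    rw [h.mul_mem_iff (inv_mem h.hy) hx, inv_mem_iff]
    exact ⟨fun h2 => absurd h2 h.y_not_mem, fun h2 => absurd h2 h1⟩

/-- elements outside `⟨σ⟩` are involutions and invert `σ` -/
theorem of_not_mem {x : S} (hx : x ∈ (P : Subgroup S)) (hxZ : x ∉ zpowers σ) :
    x * σ * x⁻¹ = σ ^ 3 ∧ x ^ 2 = 1 := by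
  rcases h.mem_or hx with h1 | h1
  · exact absurd h1 hxZ
  · obtain ⟨c, hc⟩ := mem_zpowers_iff.1 h1
    have h2 : x = y * σ ^ c := by rw [hc, mul_inv_cancel_left]
    refine ⟨?_, ?_⟩
    · rw [h2, ← h.rel]
      group
    · have h3 : σ ^ 3 = σ⁻¹ := by
        rw [eq_inv_iff_mul_eq_one, ← pow_succ, h.four_eq]
      have h4 : y * σ ^ c * y⁻¹ = (σ ^ c)⁻¹ := by
        rw [← conj_zpow, h.rel, h3, inv_zpow]
      have h5 : y * y = 1 := by rw [← sq, h.ysq]
      rw [h2, sq]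
      calc y * σ ^ c * (y * σ ^ c) = (y * σ ^ c * y⁻¹) * (y * y) * σ ^ c := by group
        _ = 1 := by rw [h4, h5, mul_one, inv_mul_cancel]

/-- the center of `P` -/
theorem sq_of_center {z : S} (hz : z ∈ (P : Subgroup S)) (h1 : z * σ * z⁻¹ = σ)
    (h2 : y * z * y⁻¹ = z) : z ^ 2 = 1 := by
  by_cases h3 : z ∈ zpowers σ
  · obtain ⟨c, rfl⟩ := mem_zpowers_iff.1 h3
    have h5 : σ ^ 3 = σ⁻¹ := by
      rw [eq_inv_iff_mul_eq_one, ← pow_succ, h.four_eq]
    rw [← conj_zpow, h.rel, h5, inv_zpow] at h2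
    rw [sq]
    nth_rewrite 1 [← h2]
    exact inv_mul_cancel _
  · have h4 := (h.of_not_mem hz h3).1
    rw [h1] at h4
    exact absurd h4.symm h.pow_ne

/-! ### The centralizer of `σ` -/

theorem sigma_mem : σ ∈ centralizer ({σ} : Set S) := by
  rw [mem_centralizer_singleton_iff]

set_option quotPrecheck false in
local notation "Tσ" => centralizer ({σ} : Set S)

/-- The Sylow 2-subgroup of the centralizer. -/
theorem exists_sylow : ∃ Q : Sylow 2 Tσ, (Q : Subgroup Tσ) = zpowers ⟨σ, h.sigma_mem⟩ := by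
  classical
  haveI : Fact (Nat.Prime 2) := ⟨Nat.prime_two⟩
  have hZ : IsPGroup 2 (zpowers (⟨σ, h.sigma_mem⟩ : Tσ)) := by
    refine IsPGroup.of_card (n := 2) ?_
    rw [Nat.card_zpowers, Subgroup.orderOf_mk, h.ord]
    norm_num
  obtain ⟨Q, hQ⟩ := hZ.exists_le_sylow
  refine ⟨Q, ?_⟩
  obtain ⟨a, ha⟩ := IsPGroup.iff_card.1 Q.isPGroup'
  have hle : 2 ≤ a := by
    have h1 := Subgroup.card_dvd_of_le hQ
    rw [Nat.card_zpowers, Subgroup.orderOf_mk, h.ord, ha, show (4 : ℕ) = 2 ^ 2 by norm_num] at h1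
    exact (Nat.pow_dvd_pow_iff_le_right (by norm_num)).1 h1
  -- the image in `S`
  have hQ1 : IsPGroup 2 ((Q : Subgroup Tσ).map (Tσ).subtype) := Q.isPGroup'.map _
  have hQc : Nat.card ((Q : Subgroup Tσ).map (Tσ).subtype) = 2 ^ a := by
    rw [Subgroup.card_map_of_injective (Tσ).subtype_injective]
    exact ha
  obtain ⟨R, hR⟩ := hQ1.exists_le_sylow
  obtain ⟨g, hg⟩ := MulAction.exists_smul_eq S R P
  have hRP : ∀ x : S, x ∈ (R : Subgroup S) → g * x * g⁻¹ ∈ (P : Subgroup S) := by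
    intro x hx
    rw [← hg]
    exact Subgroup.smul_mem_pointwise_smul x (MulAut.conj g) R hx
  have hPR : ∀ p : S, p ∈ (P : Subgroup S) → ∃ x ∈ (R : Subgroup S), g * x * g⁻¹ = p := by
    intro p hp
    rw [← hg] at hp
    obtain ⟨x, hx, hxp⟩ := hp
    exact ⟨x, hx, hxp⟩
  have hRc : Nat.card (R : Subgroup S) = 2 ^ 3 := by
    rw [Nat.card_congr (R.equiv P).toEquiv, h.card]
    norm_num
  have hle2 : a ≤ 3 := by
    have h1 := Subgroup.card_dvd_of_le hR
    rw [hQc, hRc] at h1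
    exact (Nat.pow_dvd_pow_iff_le_right (by norm_num)).1 h1
  have han : a = 2 := by
    by_contra hne
    have h1 : a = 3 := by omega
    have h2 : (Q : Subgroup Tσ).map (Tσ).subtype = (R : Subgroup S) :=
      Subgroup.eq_of_le_of_card_ge hR (by rw [hQc, hRc, h1])
    -- `g σ g⁻¹` is central in `P`
    have hcomm : ∀ p ∈ (P : Subgroup S), p * (g * σ * g⁻¹) * p⁻¹ = g * σ * g⁻¹ := by
      intro p hp
      obtain ⟨x, hx, rfl⟩ := hPR p hp
      rw [← h2] at hx
      obtain ⟨t, -, rfl⟩ := hx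
      have h3 := mem_centralizer_singleton_iff.1 t.2
      have h4 : (t : S) * σ * (t : S)⁻¹ = σ := by rw [h3, mul_inv_cancel_right]
      calc g * (t : S) * g⁻¹ * (g * σ * g⁻¹) * (g * (t : S) * g⁻¹)⁻¹
          = g * ((t : S) * σ * (t : S)⁻¹) * g⁻¹ := by group
        _ = _ := by rw [h4]
    have hmem : g * σ * g⁻¹ ∈ (P : Subgroup S) := by
      apply hRP
      rw [← h2]
      refine ⟨⟨σ, h.sigma_mem⟩, ?_, rfl⟩
      exact hQ (mem_zpowers _)
    have h3 := h.sq_of_center hmem (by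
      have h4 := hcomm σ h.hσ
      set z := g * σ * g⁻¹ with hz
      have h5 : σ * z = z * σ := by
        calc σ * z = (σ * z * σ⁻¹) * σ := by group
          _ = z * σ := by rw [h4]
      rw [← h5]
      group) (hcomm y h.hy)
    apply h.two_ne
    rw [conj_pow] at h3
    have h5 : σ ^ 2 = g⁻¹ * (g * σ ^ 2 * g⁻¹) * g := by group
    rw [h5, h3]
    group
  refine (Subgroup.eq_of_le_of_card_ge hQ ?_).symm
  rw [Nat.card_zpowers, Subgroup.orderOf_mk, h.ord]
  exact (ha.trans (by rw [han]; norm_num)).le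

/-- 2-elements of `T` are conjugate into `⟨σ⟩` -/
theorem conj_into {x : S} (hx : x ∈ Tσ) (ho : ∃ j : ℕ, orderOf x = 2 ^ j) :
    ∃ g ∈ Tσ, ∃ c : ℤ, x = g * σ ^ c * g⁻¹ := by
  classical
  haveI : Fact (Nat.Prime 2) := ⟨Nat.prime_two⟩
  obtain ⟨j, hj⟩ := ho
  obtain ⟨Q, hQ⟩ := h.exists_sylow
  have hZ : IsPGroup 2 (zpowers (⟨x, hx⟩ : Tσ)) := by
    refine IsPGroup.of_card (n := j) ?_
    rw [Nat.card_zpowers, Subgroup.orderOf_mk, hj]
  obtain ⟨R, hR⟩ := hZ.exists_le_sylow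
  obtain ⟨g, hg⟩ := MulAction.exists_smul_eq Tσ Q R
  have h1 : (⟨x, hx⟩ : Tσ) ∈ (R : Subgroup Tσ) := hR (mem_zpowers _)
  rw [← hg] at h1
  obtain ⟨z, hz, hzx⟩ := h1
  have h2 : z ∈ (Q : Subgroup Tσ) := hz
  rw [hQ] at h2
  obtain ⟨c, rfl⟩ := mem_zpowers_iff.1 h2
  refine ⟨g, g.2, c, ?_⟩
  have h3 : g * (⟨σ, h.sigma_mem⟩ : Tσ) ^ c * g⁻¹ = (⟨x, hx⟩ : Tσ) := hzx
  have h4 := congrArg (Subgroup.subtype Tσ) h3
  rw [map_mul, map_mul, map_inv, map_zpow] at h4
  exact h4.symm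

/-- characters of 2-power order are determined by the value at `σ` -/
theorem hom_eq_one {A : Type*} [CommGroup A] (f : Tσ →* A)
    (h4 : ∀ t, f t ^ 4 = 1) (hf : f ⟨σ, h.sigma_mem⟩ = 1) (t : Tσ) : f t = 1 := by
  classical
  haveI := Fintype.ofFinite Tσ
  obtain ⟨a, b, ha, -, ha2, hb2, hab⟩ := Cfsg.Agent.H610.EB.exists_two_part t
  have hb : f b = 1 := by
    have h1 : f b ^ orderOf b = 1 := by rw [← map_pow, pow_orderOf_eq_one, map_one]
    have h2 : Nat.Coprime 4 (orderOf b) := Nat.Coprime.pow_left 2 (Nat.coprime_two_left.2 hb2)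
    exact orderOf_eq_one_iff.1 (Nat.eq_one_of_dvd_coprimes h2 (orderOf_dvd_of_pow_eq_one (h4 b))
      (orderOf_dvd_of_pow_eq_one h1))
  have ha' : f a = 1 := by
    obtain ⟨j, hj⟩ := ha2
    obtain ⟨g, hg, c, hc⟩ := h.conj_into a.2 ⟨j, by rw [Subgroup.orderOf_coe]; exact hj⟩
    have h1 : a = ⟨g, hg⟩ * ⟨σ, h.sigma_mem⟩ ^ c * ⟨g, hg⟩⁻¹ := Subtype.ext (by
      rw [Subgroup.coe_mul, Subgroup.coe_mul, Subgroup.coe_inv, Subgroup.coe_zpow]
      exact hc)
    rw [h1, map_mul, map_mul, map_inv, map_zpow, hf, one_zpow, mul_one, mul_inv_cancel]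
  rw [hab, map_mul, ha', hb, mul_one]

/-- the character -/
theorem exists_lam : ∃ lam : Tσ →* ℂˣ, (∀ t, lam t ^ 4 = 1) ∧ lam ⟨σ, h.sigma_mem⟩ ^ 2 ≠ 1 := by
  classical
  haveI : Fact (Nat.Prime 2) := ⟨Nat.prime_two⟩
  obtain ⟨Q, hQ⟩ := h.exists_sylow
  have hσQ : (⟨σ, h.sigma_mem⟩ : Tσ) ∈ (Q : Subgroup Tσ) := by
    rw [hQ]
    exact mem_zpowers _
  have hgen : ∀ x : (Q : Subgroup Tσ), x ∈ zpowers (⟨⟨σ, h.sigma_mem⟩, hσQ⟩ : (Q : Subgroup Tσ)) := by
    rintro ⟨x, hx⟩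
    have h1 := hx
    rw [hQ] at h1
    obtain ⟨c, hc⟩ := mem_zpowers_iff.1 h1
    exact mem_zpowers_iff.2 ⟨c, Subtype.ext hc⟩
  have hcyc : IsCyclic (Q : Subgroup Tσ) := ⟨⟨_, hgen⟩⟩
  have hordT : orderOf (⟨σ, h.sigma_mem⟩ : Tσ) = 4 := by
    rw [Subgroup.orderOf_mk, h.ord]
  have hmin : (Nat.card Tσ).minFac = 2 := by
    rw [Nat.minFac_eq_two_iff]
    have h1 : 4 ∣ Nat.card Tσ := by
      rw [← hordT]
      exact _root_.orderOf_dvd_natCard _
    exact (by norm_num : 2 ∣ 4).trans h1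
  have hnc := hcyc.normalizer_le_centralizer hmin
  -- a fourth root of unity
  have hI : Units.mk0 Complex.I Complex.I_ne_zero ^ 4 = 1 := by
    apply Units.ext
    simp [Complex.I_pow_four]
  have hI2 : Units.mk0 Complex.I Complex.I_ne_zero ^ 2 = -1 := by
    apply Units.ext
    simp
  have hdvd : orderOf (Units.mk0 Complex.I Complex.I_ne_zero) ∣
      orderOf (⟨⟨σ, h.sigma_mem⟩, hσQ⟩ : (Q : Subgroup Tσ)) := by
    refine (orderOf_dvd_of_pow_eq_one hI).trans ?_
    rw [Subgroup.orderOf_mk, hordT]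
  let χ : (Q : Subgroup Tσ) →* ℂˣ := monoidHomOfForallMemZpowers hgen hdvd
  have hχ : χ ⟨⟨σ, h.sigma_mem⟩, hσQ⟩ = Units.mk0 Complex.I Complex.I_ne_zero :=
    monoidHomOfForallMemZpowers_apply_gen hgen hdvd
  have hχ4 : ∀ x, χ x ^ 4 = 1 := by
    intro x
    obtain ⟨c, rfl⟩ := mem_zpowers_iff.1 (hgen x)
    rw [map_zpow, hχ, ← zpow_natCast, ← zpow_mul, mul_comm, zpow_mul, zpow_natCast, hI, one_zpow]
  refine ⟨χ.comp (MonoidHom.transferSylow Q hnc), fun t => hχ4 _, ?_⟩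
  rw [MonoidHom.comp_apply, MonoidHom.transferSylow_eq_pow Q hnc _ hσQ]
  have h1 : (⟨(⟨σ, h.sigma_mem⟩ : Tσ) ^ (Q : Subgroup Tσ).index, _⟩ : (Q : Subgroup Tσ)) =
      (⟨⟨σ, h.sigma_mem⟩, hσQ⟩ : (Q : Subgroup Tσ)) ^ (Q : Subgroup Tσ).index := rfl
  rw [h1, map_pow, hχ, ← pow_mul, mul_comm, pow_mul, hI2]
  have h2 : Odd (Q : Subgroup Tσ).index := by
    rw [← Nat.not_even_iff_odd, even_iff_two_dvd]
    exact Q.not_dvd_index
  rw [h2.neg_one_pow]
  intro h3
  have h4 := congrArg (Units.val) h3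
  norm_num at h4

theorem conj_mem_T {t : S} (ht : t ∈ Tσ) : y * t * y⁻¹ ∈ Tσ := by
  rw [mem_centralizer_singleton_iff] at ht ⊢
  have h5 : σ ^ 3 = σ⁻¹ := by
    rw [eq_inv_iff_mul_eq_one, ← pow_succ, h.four_eq]
  have h6 : y⁻¹ * σ * y = σ⁻¹ := by
    have h7 := h.rel
    rw [h5] at h7
    have h8 : y⁻¹ = y := by
      rw [inv_eq_iff_mul_eq_one, ← sq, h.ysq]
    rw [h8] at h7 ⊢
    exact h7
  have h7 : t * σ⁻¹ = σ⁻¹ * t := (show Commute t σ from ht).inv_right
  calc y * t * y⁻¹ * σ = y * (t * (y⁻¹ * σ * y)) * y⁻¹ := by group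
    _ = y * (y⁻¹ * σ * y * t) * y⁻¹ := by rw [h6, h7]
    _ = σ * (y * t * y⁻¹) := by group

/-- elements of `⟨σ⟩` outside `⟨σ ^ 4⟩` -/
theorem exists_zpow {c : ℤ} (hc : ¬ (4 : ℤ) ∣ c) : ∃ d : ℤ, (σ ^ c) ^ d = σ ^ 2 := by
  have key : ∃ d k : ℤ, c * d = 2 + 4 * k := by
    rcases Int.even_or_odd c with ⟨b, hb⟩ | ⟨b, hb⟩
    · have hb1 : Odd b := by
        rw [← Int.not_even_iff_odd]
        rintro ⟨a, ha⟩
        apply hc
        exact ⟨a, by omega⟩
      obtain ⟨a, ha⟩ := hb1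
      exact ⟨1, a, by omega⟩
    · exact ⟨2, b, by omega⟩
  obtain ⟨d, k, hk⟩ := key
  refine ⟨d, ?_⟩
  rw [← zpow_mul, hk, zpow_add, (h.zpow_eq_one_iff _).2 ⟨k, rfl⟩, mul_one]
  norm_cast

/-- **Fusion.** -/
theorem fusion {lam : Tσ →* ℂˣ} (h4 : ∀ t, lam t ^ 4 = 1) (x : S)
    (t t' : Tσ) (htt : (t' : S) = x * t * x⁻¹) (h1 : lam t ≠ 1)
    (h2 : lam t' ≠ 1) : x ∈ Tσ ∨ y⁻¹ * x ∈ Tσ := by
  classical
  haveI := Fintype.ofFinite (Tσ)
  obtain ⟨a, b, ha, hb, ha2, hb2, hab⟩ := Cfsg.Agent.H610.EB.exists_two_part t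
  obtain ⟨i, hi⟩ := mem_zpowers_iff.1 ha
  obtain ⟨j, hj⟩ := mem_zpowers_iff.1 hb
  have hodd1 : ∀ b : Tσ, Odd (orderOf b) → lam b = 1 := by
    intro b hb2
    have h1 : lam b ^ orderOf b = 1 := by rw [← map_pow, pow_orderOf_eq_one, map_one]
    have h2 : Nat.Coprime 4 (orderOf b) := Nat.Coprime.pow_left 2 (Nat.coprime_two_left.2 hb2)
    exact orderOf_eq_one_iff.1 (Nat.eq_one_of_dvd_coprimes h2 (orderOf_dvd_of_pow_eq_one (h4 b))
      (orderOf_dvd_of_pow_eq_one h1))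
  have hord : ∀ (k : ℤ), orderOf (t' ^ k) = orderOf (t ^ k) := by
    intro k
    rw [← Subgroup.orderOf_coe, ← Subgroup.orderOf_coe, Subgroup.coe_zpow, Subgroup.coe_zpow, htt,
      conj_zpow]
    have h5 := orderOf_injective (MulAut.conj x).toMonoidHom (MulAut.conj x).injective ((t : S) ^ k)
    exact h5
  have hla : lam a ≠ 1 := by
    intro h5
    apply h1
    rw [hab, map_mul, h5, hodd1 b hb2, one_mul]
  have hla' : lam (t' ^ i) ≠ 1 := by
    intro h5
    apply h2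
    have h6 : t' = t' ^ i * t' ^ j := by
      apply Subtype.ext
      have h7 : (t : S) = (t : S) ^ i * (t : S) ^ j := by
        have h8 := hab
        rw [← hi, ← hj] at h8
        exact congrArg Subtype.val h8
      rw [Subgroup.coe_mul, Subgroup.coe_zpow, Subgroup.coe_zpow, htt, conj_zpow, conj_zpow]
      conv_lhs => rw [h7]
      group
    rw [h6, map_mul, h5, one_mul]
    apply hodd1
    rw [hord j, hj]
    exact hb2
  obtain ⟨r, hr⟩ := ha2
  obtain ⟨g, hg, c, hc⟩ := h.conj_into a.2 ⟨r, by rw [Subgroup.orderOf_coe]; exact hr⟩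
  obtain ⟨g', hg', c', hc'⟩ := h.conj_into (t' ^ i).2 ⟨r, by
    rw [Subgroup.orderOf_coe, hord i, hi]; exact hr⟩
  have hlc : ∀ (s : Tσ) (g : S) (hg : g ∈ Tσ) (c : ℤ), (s : S) = g * σ ^ c * g⁻¹ → lam s ≠ 1 →
      ¬ (4 : ℤ) ∣ c := by
    rintro s g hg c hs hls ⟨d, rfl⟩
    apply hls
    have h5 : s = ⟨g, hg⟩ * (⟨σ, h.sigma_mem⟩ : Tσ) ^ (4 * d) * ⟨g, hg⟩⁻¹ := Subtype.ext (by
      rw [Subgroup.coe_mul, Subgroup.coe_mul, Subgroup.coe_inv, Subgroup.coe_zpow]
      exact hs)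
    rw [h5, map_mul, map_mul, map_inv, map_zpow, zpow_mul, show lam (⟨σ, h.sigma_mem⟩ : Tσ) ^ (4 : ℤ) = 1
      from by exact_mod_cast h4 _, one_zpow, mul_one, mul_inv_cancel]
  have hc4 := hlc a g hg c hc hla
  have hcc : x * (g * σ ^ c * g⁻¹) * x⁻¹ = g' * σ ^ c' * g'⁻¹ := by
    rw [← hc, ← hc', ← hi, Subgroup.coe_zpow, Subgroup.coe_zpow, htt, conj_zpow]
  -- `z = g'⁻¹ x g`
  set z : S := g'⁻¹ * x * g with hz
  have hzc : z * σ ^ c * z⁻¹ = σ ^ c' := by
    rw [hz]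
    calc g'⁻¹ * x * g * σ ^ c * (g'⁻¹ * x * g)⁻¹ = g'⁻¹ * (x * (g * σ ^ c * g⁻¹) * x⁻¹) * g' := by group
      _ = g'⁻¹ * (g' * σ ^ c' * g'⁻¹) * g' := by rw [hcc]
      _ = σ ^ c' := by group
  obtain ⟨d, hd⟩ := h.exists_zpow hc4
  have hz2 : z * σ ^ 2 = σ ^ 2 * z := by
    have h5 : z * σ ^ 2 * z⁻¹ = σ ^ (c' * d) := by
      rw [← hd, ← conj_zpow, hzc, zpow_mul]
    have h6 : (σ ^ (c' * d)) ^ 2 = 1 := by
      rw [← h5, conj_pow, ← pow_mul, h.four_eq]
      group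
    have h7 : σ ^ (c' * d) ≠ 1 := by
      rw [← h5]
      intro h8
      apply h.two_ne
      have h9 : σ ^ 2 = z⁻¹ * (z * σ ^ 2 * z⁻¹) * z := by group
      rw [h9, h8]
      group
    have h8 : σ ^ (c' * d) = σ ^ 2 := by
      rw [← zpow_natCast, ← zpow_mul, h.zpow_eq_one_iff] at h6
      rw [Ne, h.zpow_eq_one_iff] at h7
      have h9 : (4 : ℤ) ∣ c' * d - 2 := by
        push_cast at h6
        omega
      have h10 := (h.zpow_eq_one_iff _).2 h9
      rw [zpow_sub, mul_inv_eq_one] at h10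
      rw [h10]
      norm_cast
    rw [← mul_inv_eq_iff_eq_mul, h5, h8]
  have hxz : x = g' * z * g⁻¹ := by
    rw [hz]
    group
  rcases h.cent z hz2 with h5 | h5
  · left
    rw [hxz]
    exact mul_mem (mul_mem hg' h5) (inv_mem hg)
  · right
    have h8 : y⁻¹ = y := by
      rw [inv_eq_iff_mul_eq_one, ← sq, h.ysq]
    have h9 : y * g' * y⁻¹ = y⁻¹ * g' * y := by rw [h8]
    have h6 : y⁻¹ * x = (y * g' * y⁻¹) * (y⁻¹ * z) * g⁻¹ := by
      rw [h9, hxz]
      group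
    rw [h6]
    exact mul_mem (mul_mem (h.conj_mem_T hg') h5) (inv_mem hg)

/-- inversion by `y` -/
theorem inversion {lam : Tσ →* ℂˣ} (h4 : ∀ t, lam t ^ 4 = 1)
    (t : Tσ) (hm : y * t * y⁻¹ ∈ Tσ) : lam ⟨y * t * y⁻¹, hm⟩ = (lam t)⁻¹ := by
  let c : Tσ →* Tσ :=
    { toFun := fun t => ⟨y * t * y⁻¹, h.conj_mem_T t.2⟩
      map_one' := Subtype.ext (by simp)
      map_mul' := fun s t => Subtype.ext (by
        show y * ((s : S) * t) * y⁻¹ = y * s * y⁻¹ * (y * t * y⁻¹)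
        group) }
  have h1 := h.hom_eq_one ((lam.comp c) * lam) (fun t => by
    rw [MonoidHom.mul_apply, mul_pow, MonoidHom.comp_apply, h4, h4, one_mul]) (by
    rw [MonoidHom.mul_apply, MonoidHom.comp_apply]
    have h2 : c ⟨σ, h.sigma_mem⟩ = (⟨σ, h.sigma_mem⟩ : Tσ) ^ 3 := Subtype.ext (by
      show y * σ * y⁻¹ = _
      rw [h.rel]
      rfl)
    rw [h2, map_pow, ← pow_succ, h4]) t
  rw [MonoidHom.mul_apply, MonoidHom.comp_apply] at h1
  exact eq_inv_of_mul_eq_one_left h1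

/-- **Automorphisms.** -/
theorem auto {lam : Tσ →* ℂˣ} (h4 : ∀ t, lam t ^ 4 = 1) (a : S ≃* S) :
    ∃ s : S, ∀ t : Tσ, ∃ t' : Tσ, (t' : S) = s * a t * s⁻¹ ∧ lam t' = lam t := by
  classical
  haveI : Fact (Nat.Prime 2) := ⟨Nat.prime_two⟩
  -- move `a P` to `P`
  have hP1 : IsPGroup 2 ((P : Subgroup S).map a.toMonoidHom) := P.isPGroup'.map _
  obtain ⟨R, hR⟩ := hP1.exists_le_sylow
  obtain ⟨g, hg⟩ := MulAction.exists_smul_eq S R P
  have hgP : ∀ x ∈ (P : Subgroup S), g * a x * g⁻¹ ∈ (P : Subgroup S) := by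
    intro x hx
    rw [← hg]
    exact Subgroup.smul_mem_pointwise_smul (a x) (MulAut.conj g) R (hR ⟨x, hx, rfl⟩)
  have hmem := hgP σ h.hσ
  have hne2 : (g * a σ * g⁻¹) ^ 2 ≠ 1 := by
    intro h1
    apply h.two_ne
    rw [conj_pow, ← map_pow] at h1
    have h2 : a (σ ^ 2) = 1 := by
      calc a (σ ^ 2) = g⁻¹ * (g * a (σ ^ 2) * g⁻¹) * g := by group
        _ = 1 := by rw [h1]; group
    exact (map_eq_one_iff a a.injective).1 h2
  have hZ : g * a σ * g⁻¹ ∈ zpowers σ := by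
    by_contra hcon
    exact hne2 (h.of_not_mem hmem hcon).2
  obtain ⟨c, hc⟩ := mem_zpowers_iff.1 hZ
  -- `c` is odd
  have hodd : Odd c := by
    rw [← Int.not_even_iff_odd]
    rintro ⟨d, hd⟩
    apply hne2
    rw [← hc, ← zpow_natCast, ← zpow_mul, h.zpow_eq_one_iff, hd]
    push_cast
    exact ⟨d, by ring⟩
  -- the automorphism preserves `T`
  have hT1 : ∀ t ∈ Tσ, g * a t * g⁻¹ ∈ Tσ := by
    intro t ht
    rw [mem_centralizer_singleton_iff] at ht ⊢
    have h1 : Commute (g * a t * g⁻¹) (g * a σ * g⁻¹) := by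
      show g * a t * g⁻¹ * (g * a σ * g⁻¹) = g * a σ * g⁻¹ * (g * a t * g⁻¹)
      have h2 : a t * a σ = a σ * a t := by rw [← map_mul, ht, map_mul]
      calc g * a t * g⁻¹ * (g * a σ * g⁻¹) = g * (a t * a σ) * g⁻¹ := by group
        _ = g * (a σ * a t) * g⁻¹ := by rw [h2]
        _ = _ := by group
    rw [← hc] at h1
    have h3 := h1.zpow_right c
    rw [← zpow_mul] at h3
    have h5 : σ ^ (c * c) = σ := by
      have h6 : (4 : ℤ) ∣ c * c - 1 := by
        obtain ⟨k, hk⟩ := hodd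
        exact ⟨k * k + k, by rw [hk]; ring⟩
      have h7 := (h.zpow_eq_one_iff _).2 h6
      rw [zpow_sub, mul_inv_eq_one, zpow_one] at h7
      exact h7
    rw [h5] at h3
    exact h3
  let α : Tσ →* Tσ :=
    { toFun := fun t => ⟨g * a t * g⁻¹, hT1 t t.2⟩
      map_one' := Subtype.ext (by simp only [_root_.OneMemClass.coe_one, _root_.map_one, _root_.mul_one, _root_.mul_inv_cancel])
      map_mul' := fun s t => Subtype.ext (by
        show g * a ((s : S) * t) * g⁻¹ = g * a s * g⁻¹ * (g * a t * g⁻¹)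
        rw [map_mul]
        group) }
  have hασ : α ⟨σ, h.sigma_mem⟩ = (⟨σ, h.sigma_mem⟩ : Tσ) ^ c := Subtype.ext (by
    show g * a σ * g⁻¹ = _
    rw [← hc]
    rfl)
  have hinv4 : ∀ z : ℂˣ, z ^ 4 = 1 → z⁻¹ ^ 4 = 1 := fun z hz => by rw [inv_pow, hz, inv_one]
  have hz4 : ∀ (z : ℂˣ) (k : ℤ), z ^ 4 = 1 → z ^ (4 * k) = 1 := by
    intro z k hz
    rw [zpow_mul, show z ^ (4 : ℤ) = 1 from by exact_mod_cast hz, one_zpow]
  have hcase : (4 : ℤ) ∣ c - 1 ∨ (4 : ℤ) ∣ c + 1 := by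
    obtain ⟨k, hk⟩ := hodd
    omega
  rcases hcase with ⟨k, hk⟩ | ⟨k, hk⟩
  · refine ⟨g, fun t => ⟨α t, rfl, ?_⟩⟩
    have h1 := h.hom_eq_one ((lam.comp α) * lam⁻¹) (fun t => by
      rw [MonoidHom.mul_apply, mul_pow, MonoidHom.comp_apply, MonoidHom.inv_apply, h4,
        hinv4 _ (h4 _), one_mul]) (by
      rw [MonoidHom.mul_apply, MonoidHom.comp_apply, MonoidHom.inv_apply, hασ, map_zpow,
        ← zpow_sub_one, hk, hz4 _ _ (h4 _)]) t
    rw [MonoidHom.mul_apply, MonoidHom.comp_apply, MonoidHom.inv_apply] at h1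
    exact mul_inv_eq_one.1 h1
  · refine ⟨y * g, fun t => ⟨⟨y * α t * y⁻¹, h.conj_mem_T (α t).2⟩, ?_, ?_⟩⟩
    · show y * (g * a t * g⁻¹) * y⁻¹ = y * g * a t * (y * g)⁻¹
      group
    · rw [h.inversion h4]
      have h1 := h.hom_eq_one ((lam.comp α) * lam) (fun t => by
        rw [MonoidHom.mul_apply, mul_pow, MonoidHom.comp_apply, h4, h4, one_mul]) (by
        rw [MonoidHom.mul_apply, MonoidHom.comp_apply, hασ, map_zpow, ← zpow_add_one, hk,
          hz4 _ _ (h4 _)]) t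
      rw [MonoidHom.mul_apply, MonoidHom.comp_apply] at h1
      exact inv_eq_of_mul_eq_one_right h1

end D8

/-- **The TI data.** -/
theorem D8.exists_ti {S : Type u} [Group S] [Fintype S] {P : Sylow 2 S} {σ y : S}
    (h : D8 P σ y) : ∃ lam : centralizer ({σ} : Set S) →* ℂˣ, TI (centralizer ({σ} : Set S)) lam y := by
  obtain ⟨lam, h4, h2⟩ := h.exists_lam
  exact ⟨lam, {
    four := h4
    two := ⟨_, h2⟩
    inv := fun t => ⟨⟨y * t * y⁻¹, h.conj_mem_T t.2⟩, rfl, h.inversion h4 t _⟩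
    ti := fun x t t' htt h1 h3 => h.fusion h4 x t t' htt h1 h3
    aut := fun a => h.auto h4 a }⟩

/-- **Dihedral of order 8.** -/
theorem D8.evenJ {S : Type u} [Group S] [Fintype S] {P : Sylow 2 S} {σ y : S}
    (h : D8 P σ y) : EvenJ S := by
  obtain ⟨lam, hlam⟩ := h.exists_ti
  exact hlam.evenJ

/-- **Dihedral Sylow 2-subgroups of order 8, small centralizer.** -/
theorem evenJ_of_d8 {S : Type u} [Group S] [Fintype S] (P : Sylow 2 S)
    (e : (P : Subgroup S) ≃* DihedralGroup 4)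
    (hcent : ∀ σ y : S, σ ^ 2 ≠ 1 → y * σ ^ 2 = σ ^ 2 * y → y * σ ≠ σ * y → ∀ x : S,
      x * σ ^ 2 = σ ^ 2 * x → x * σ = σ * x ∨ y⁻¹ * x * σ = σ * (y⁻¹ * x)) : EvenJ S := by
  set x := e.symm (DihedralGroup.r 1) with hx
  set y := e.symm (DihedralGroup.sr 0) with hy
  have ho : orderOf x = 4 := by
    rw [hx, MulEquiv.orderOf_eq e.symm]
    exact DihedralGroup.orderOf_r_one
  have hc : Nat.card (P : Subgroup S) = 8 := by
    rw [Nat.card_congr e.toEquiv, DihedralGroup.nat_card]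
  have hrel : y * x * y⁻¹ = x ^ 3 := by
    apply e.injective
    rw [map_mul, map_mul, map_inv, map_pow, hx, hy, MulEquiv.apply_symm_apply,
      MulEquiv.apply_symm_apply, DihedralGroup.r_one_pow]
    rw [DihedralGroup.inv_sr, DihedralGroup.sr_mul_r, DihedralGroup.sr_mul_sr]
    rfl
  have hsq : y ^ 2 = 1 := by
    apply e.injective
    rw [map_pow, hy, MulEquiv.apply_symm_apply, map_one, sq, DihedralGroup.sr_mul_sr]
    rfl
  have hx2 : (x : S) ^ 2 ≠ 1 := by
    intro h1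
    have h2 := orderOf_dvd_of_pow_eq_one h1
    rw [Subgroup.orderOf_coe, ho] at h2
    norm_num at h2
  have hyx2 : (y : S) * (x : S) ^ 2 = (x : S) ^ 2 * y := by
    have h1 : y * x ^ 2 = x ^ 2 * y := by
      apply e.injective
      rw [map_mul, map_mul, map_pow, hx, hy, MulEquiv.apply_symm_apply, MulEquiv.apply_symm_apply,
        DihedralGroup.r_one_pow, DihedralGroup.sr_mul_r, DihedralGroup.r_mul_sr]
      rfl
    exact congrArg Subtype.val h1
  have hyx : (y : S) * (x : S) ≠ (x : S) * y := by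
    intro h1
    have h2 : y * x = x * y := Subtype.ext h1
    have h3 := congrArg e h2
    rw [map_mul, map_mul, hx, hy, MulEquiv.apply_symm_apply, MulEquiv.apply_symm_apply,
      DihedralGroup.sr_mul_r, DihedralGroup.r_mul_sr] at h3
    exact absurd h3 (by decide)
  have h1 : D8 P (x : S) (y : S) := {
    hσ := x.2
    hy := y.2
    ord := by rw [Subgroup.orderOf_coe, ho]
    card := hc
    rel := congrArg Subtype.val hrel
    ysq := congrArg Subtype.val hsq
    cent := fun z hz => by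
      rw [mem_centralizer_singleton_iff, mem_centralizer_singleton_iff]
      exact hcent x y hx2 hyx2 hyx z hz }
  exact h1.evenJ

end Cfsg.Agent.H497.EB
end

-- part: H497/EB/Rows
section
/-!
# Rows of S4522 / S4515: `PSL₂(q)`, `PSL₃(q)`, `q = 3 mod 4`, `PSU₃(q)`, `q = 1 mod 4`, `M₁₁`
-/

set_option autoImplicit false
set_option linter.style.haveILetI false

namespace Cfsg.Agent.H497.EB

open Cfsg Subgroup Cfsg.Agent.H684.EB Matrix

universe u v

/-! ### Two by two matrices -/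

theorem cross {F : Type*} [Field F] {b c e x y z p q r : F} (h : b ≠ 0 ∨ c ≠ 0 ∨ e ≠ 0)
    (h1 : b * y = x * c) (h2 : x * e = b * z) (h3 : c * z = y * e)
    (g1 : b * q = p * c) (g2 : p * e = b * r) (g3 : c * r = q * e) :
    p * y = x * q ∧ x * r = p * z ∧ q * z = y * r := by
  rcases h with h | h | h
  · refine ⟨?_, ?_, ?_⟩ <;> apply mul_left_cancel₀ h
    · linear_combination p * h1 - x * g1
    · linear_combination p * h2 - x * g2
    · linear_combination -q * h2 - r * h1 - x * g3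
  · have k1 : p * y = x * q := by
      apply mul_left_cancel₀ h
      linear_combination q * h1 - y * g1
    refine ⟨k1, ?_, ?_⟩ <;> apply mul_left_cancel₀ h
    · linear_combination -p * h3 + x * g3 - e * k1
    · linear_combination q * h3 - y * g3
  · have k3 : q * z = y * r := by
      apply mul_left_cancel₀ h
      linear_combination r * h3 - z * g3
    refine ⟨?_, ?_, k3⟩ <;> apply mul_left_cancel₀ h
    · linear_combination y * g2 - q * h2 - b * k3
    · linear_combination r * h2 - z * g2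

/-- The centralizer of a nonscalar matrix is commutative. -/
theorem comm_of_comm {F : Type*} [Field F] {A B X : Matrix.SpecialLinearGroup (Fin 2) F}
    (hA : A ∉ Subgroup.center (Matrix.SpecialLinearGroup (Fin 2) F)) (hB : A * B = B * A)
    (hX : A * X = X * A) : B * X = X * B := by
  have e1 : ∀ Y : Matrix.SpecialLinearGroup (Fin 2) F, A * Y = Y * A →
      A.1 0 1 * Y.1 1 0 = Y.1 0 1 * A.1 1 0 ∧ Y.1 0 1 * (A.1 0 0 - A.1 1 1) = A.1 0 1 * (Y.1 0 0 - Y.1 1 1) ∧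
      A.1 1 0 * (Y.1 0 0 - Y.1 1 1) = Y.1 1 0 * (A.1 0 0 - A.1 1 1) := by
    intro Y hY
    have h1 : A.1 * Y.1 = Y.1 * A.1 := congrArg Subtype.val hY
    have h00 := congrFun (congrFun h1 0) 0
    have h01 := congrFun (congrFun h1 0) 1
    have h10 := congrFun (congrFun h1 1) 0
    rw [Matrix.mul_apply, Matrix.mul_apply, Fin.sum_univ_two, Fin.sum_univ_two] at h00 h01 h10
    refine ⟨?_, ?_, ?_⟩
    · linear_combination h00
    · linear_combination h01
    · linear_combination h10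
  have hne : A.1 0 1 ≠ 0 ∨ A.1 1 0 ≠ 0 ∨ A.1 0 0 - A.1 1 1 ≠ 0 := by
    by_contra hcon
    push Not at hcon
    obtain ⟨h1, h2, h3⟩ := hcon
    apply hA
    rw [Matrix.SpecialLinearGroup.mem_center_iff]
    have hdet := A.2
    rw [Matrix.det_fin_two, h1, h2] at hdet
    refine ⟨A.1 0 0, ?_, ?_⟩
    · rw [Fintype.card_fin]
      linear_combination hdet + A.1 0 0 * h3
    · ext i j
      fin_cases i <;> fin_cases j
      · simp
      · simp [h1]
      · simp [h2]
      · simp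
        linear_combination h3
  obtain ⟨h1, h2, h3⟩ := e1 B hB
  obtain ⟨g1, g2, g3⟩ := e1 X hX
  obtain ⟨k1, k2, k3⟩ := cross hne h1 h2 h3 g1 g2 g3
  apply Subtype.ext
  show B.1 * X.1 = X.1 * B.1
  ext i j
  fin_cases i <;> fin_cases j <;> simp only [Matrix.mul_apply, Fin.sum_univ_two]
  · simp only [_root_.Fin.zero_eta, _root_.Fin.isValue]
    linear_combination -k1
  · simp only [_root_.Fin.zero_eta, _root_.Fin.isValue, _root_.Fin.mk_one]
    linear_combination -k2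
  · simp only [_root_.Fin.mk_one, _root_.Fin.isValue, _root_.Fin.zero_eta]
    linear_combination -k3
  · simp only [_root_.Fin.mk_one, _root_.Fin.isValue]
    linear_combination k1

/-- The centralizer condition in `PSL₂(F)`. -/
theorem psl_cent {F : Type*} [Field F] (σ y : Matrix.ProjectiveSpecialLinearGroup (Fin 2) F)
    (h2 : σ ^ 2 ≠ 1) (hy : y * σ ^ 2 = σ ^ 2 * y) (hyσ : y * σ ≠ σ * y)
    (x : Matrix.ProjectiveSpecialLinearGroup (Fin 2) F) (hx : x * σ ^ 2 = σ ^ 2 * x) :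
    x * σ = σ * x ∨ y⁻¹ * x * σ = σ * (y⁻¹ * x) := by
  obtain ⟨B, rfl⟩ := QuotientGroup.mk_surjective σ
  obtain ⟨Y, rfl⟩ := QuotientGroup.mk_surjective y
  obtain ⟨X, rfl⟩ := QuotientGroup.mk_surjective x
  set C := Subgroup.center (Matrix.SpecialLinearGroup (Fin 2) F) with hC
  have hA : B ^ 2 ∉ C := by
    intro h
    apply h2
    rw [← QuotientGroup.mk_pow]
    exact (QuotientGroup.eq_one_iff _).2 h
  have hBA : B ^ 2 * B = B * B ^ 2 := by group
  -- central commutators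
  have key : ∀ Z : Matrix.SpecialLinearGroup (Fin 2) F,
      (QuotientGroup.mk Z : Matrix.ProjectiveSpecialLinearGroup (Fin 2) F) * (QuotientGroup.mk B) ^ 2 =
        (QuotientGroup.mk B) ^ 2 * QuotientGroup.mk Z →
      ∃ c ∈ C, ∃ r : F, (r = 1 ∨ r = -1) ∧ Matrix.scalar (Fin 2) r = c.1 ∧ Z * B ^ 2 = B ^ 2 * Z * c := by
    intro Z hZ
    have h1 : (QuotientGroup.mk (B ^ 2 * Z) : Matrix.ProjectiveSpecialLinearGroup (Fin 2) F) =
        QuotientGroup.mk (Z * B ^ 2) := by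
      rw [QuotientGroup.mk_mul, QuotientGroup.mk_mul, QuotientGroup.mk_pow]
      exact hZ.symm
    have h3 := QuotientGroup.eq.1 h1
    obtain ⟨r, hr, hrc⟩ := Matrix.SpecialLinearGroup.mem_center_iff.1 h3
    refine ⟨_, h3, r, ?_, hrc, by group⟩
    rw [Fintype.card_fin] at hr
    have h4 : (r - 1) * (r + 1) = 0 := by linear_combination hr
    rcases mul_eq_zero.1 h4 with h5 | h5
    · left
      linear_combination h5
    · right
      linear_combination h5
  have hcomm : ∀ Z : Matrix.SpecialLinearGroup (Fin 2) F, Z * B ^ 2 = B ^ 2 * Z →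
      (QuotientGroup.mk Z : Matrix.ProjectiveSpecialLinearGroup (Fin 2) F) * QuotientGroup.mk B =
        QuotientGroup.mk B * QuotientGroup.mk Z := by
    intro Z hZ
    rw [← QuotientGroup.mk_mul, ← QuotientGroup.mk_mul, comm_of_comm hA hBA hZ.symm]
  obtain ⟨c, hc, r, hr, hrc, hcX⟩ := key X hx
  obtain ⟨d, hd, t, ht, htd, hdY⟩ := key Y hy
  have hone : ∀ (c : Matrix.SpecialLinearGroup (Fin 2) F), Matrix.scalar (Fin 2) (1 : F) = c.1 → c = 1 := by
    intro c hc
    apply Subtype.ext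
    rw [← hc, map_one]
    rfl
  have ht1 : t = -1 := by
    rcases ht with rfl | h
    · exfalso
      apply hyσ
      apply hcomm
      rw [hdY, hone d htd, mul_one]
    · exact h
  rcases hr with rfl | hr
  · left
    apply hcomm
    rw [hcX, hone c hrc, mul_one]
  · right
    have hcd : c = d := Subtype.ext (by rw [← hrc, ← htd, hr, ht1])
    have h1 : Y⁻¹ * X * B ^ 2 = B ^ 2 * (Y⁻¹ * X) := by
      have h3 : d * Y⁻¹ = Y⁻¹ * d := (Subgroup.mem_center_iff.1 hd Y⁻¹).symm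
      have h4 : B ^ 2 = Y⁻¹ * (B ^ 2 * Y * d) := by rw [← hdY]; group
      have h5 : B ^ 2 * Y⁻¹ = Y⁻¹ * B ^ 2 * d := by
        have h6 : ∀ Z, Z * d = d * Z := fun Z => Subgroup.mem_center_iff.1 hd Z
        calc B ^ 2 * Y⁻¹ = Y⁻¹ * (B ^ 2 * Y * d) * Y⁻¹ := by rw [← h4]
          _ = Y⁻¹ * (B ^ 2 * Y * (d * Y⁻¹)) := by group
          _ = Y⁻¹ * (B ^ 2 * Y * (Y⁻¹ * d)) := by rw [h3]
          _ = Y⁻¹ * B ^ 2 * d := by group
      calc Y⁻¹ * X * B ^ 2 = Y⁻¹ * (X * B ^ 2) := by group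
        _ = Y⁻¹ * (B ^ 2 * X * d) := by rw [hcX, hcd]
        _ = Y⁻¹ * B ^ 2 * (X * d) := by group
        _ = Y⁻¹ * B ^ 2 * (d * X) := by rw [Subgroup.mem_center_iff.1 hd X]
        _ = (Y⁻¹ * B ^ 2 * d) * X := by group
        _ = B ^ 2 * (Y⁻¹ * X) := by rw [← h5]; group
    have h2 := hcomm _ h1
    rw [QuotientGroup.mk_mul, QuotientGroup.mk_inv] at h2
    exact h2

/-! ### Transfer along isomorphisms -/

/-- Sylow subgroups of isomorphic groups. -/
theorem exists_sylow_equiv {A : Type u} {B : Type v} [Group A] [Group B] [Finite A] [Finite B] (e : A ≃* B)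
    (P : Sylow 2 A) : ∃ Q : Sylow 2 B, Nonempty ((P : Subgroup A) ≃* (Q : Subgroup B)) := by
  haveI : Fact (Nat.Prime 2) := ⟨Nat.prime_two⟩
  have h1 : IsPGroup 2 ((P : Subgroup A).map e.toMonoidHom) := P.isPGroup'.map _
  obtain ⟨Q, hQ⟩ := h1.exists_le_sylow
  have h2 : (P : Subgroup A).map e.toMonoidHom = (Q : Subgroup B) := by
    apply Subgroup.eq_of_le_of_card_ge hQ
    rw [Subgroup.card_map_of_injective e.injective, Sylow.card_eq_multiplicity, Sylow.card_eq_multiplicity,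
      Nat.card_congr e.toEquiv]
  exact ⟨Q, ⟨(P.1.equivMapOfInjective e.toMonoidHom e.injective).trans (MulEquiv.subgroupCongr h2)⟩⟩

/-- **`PSL₂(q)`, `16 ∣ q² - 1`.** -/
theorem evenJ_psl2 {F : Type v} [Field F] [Fintype F] (hodd : Fintype.card F % 2 = 1)
    (h16 : 16 ∣ Fintype.card F ^ 2 - 1) {S : Type u} [Group S] [Fintype S]
    (e : S ≃* Matrix.ProjectiveSpecialLinearGroup (Fin 2) F) : EvenJ S := by
  classical
  haveI hfin : Finite (Matrix.ProjectiveSpecialLinearGroup (Fin 2) F) := Finite.of_equiv S e.toEquiv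
  obtain ⟨P⟩ : Nonempty (Sylow 2 S) := inferInstance
  obtain ⟨Q, ⟨f⟩⟩ := exists_sylow_equiv e P
  obtain ⟨k, hk, ⟨g⟩⟩ := Cfsg.Agent.H798.psl_two_dihedral hodd h16 Q
  rcases Nat.lt_or_ge k 3 with h3 | h3
  · have hk2 : k = 2 := by omega
    subst hk2
    refine evenJ_of_d8 P (f.trans g) ?_
    intro σ y h2 hy hyσ x hx
    have h1 := psl_cent (e σ) (e y) (by rwa [← map_pow, Ne, map_eq_one_iff e e.injective])
      (by rw [← map_pow, ← map_mul, ← map_mul, hy]) (by
        intro h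
        apply hyσ
        apply e.injective
        rw [map_mul, map_mul, h]) (e x) (by rw [← map_pow, ← map_mul, ← map_mul, hx])
    rcases h1 with h1 | h1
    · left
      apply e.injective
      rw [map_mul, map_mul, h1]
    · right
      apply e.injective
      rw [map_mul, map_mul, map_mul, map_mul, map_inv, h1]
  · exact evenJ_of_dihedral P h3 (f.trans g)

/-- **`PSL₂(q)`, `q` odd, nonabelian Sylow 2-subgroups.** -/
theorem evenJ_psl2' {F : Type v} [Field F] [Fintype F] (hodd : Fintype.card F % 2 = 1)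
    {S : Type u} [Group S] [Fintype S] (e : S ≃* Matrix.ProjectiveSpecialLinearGroup (Fin 2) F)
    (Q : Sylow 2 S) (hQ : ¬ IsMulCommutative (Q : Subgroup S)) : EvenJ S := by
  classical
  haveI : Fact (Nat.Prime 2) := ⟨Nat.prime_two⟩
  by_cases h16 : 16 ∣ Fintype.card F ^ 2 - 1
  · exact evenJ_psl2 hodd h16 e
  · exfalso
    apply hQ
    have hcard := Cfsg.Agent.SmallSimple.PSLTwoPart.card_psl_two_odd (F := F) (by
      rw [Nat.odd_iff]; exact hodd)
    rw [← Nat.card_congr e.toEquiv] at hcard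
    obtain ⟨m, hm⟩ : ∃ m, Fintype.card F = 2 * m + 1 := ⟨Fintype.card F / 2, by omega⟩
    have hm2 : Fintype.card F ^ 2 - 1 = 4 * (m * (m + 1)) := by
      rw [hm, Nat.sub_eq_iff_eq_add (by nlinarith only [_root_.Nat.cast_nonneg (α := ℤ) (m)])]
      ring
    obtain ⟨a, ha⟩ := IsPGroup.iff_card.1 Q.isPGroup'
    have hle : a ≤ 2 := by
      by_contra hlt
      apply h16
      have h1 : 2 ^ 3 ∣ Nat.card S := by
        refine (Nat.pow_dvd_pow 2 (by omega : 3 ≤ a)).trans ?_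
        rw [← ha]
        exact Subgroup.card_subgroup_dvd_card _
      have h2 : 2 ^ 4 ∣ Fintype.card F * (Fintype.card F ^ 2 - 1) := by
        rw [← hcard, show (2 : ℕ) ^ 4 = 2 * 2 ^ 3 by norm_num]
        exact Nat.mul_dvd_mul_left 2 h1
      have h3 : Nat.Coprime (2 ^ 4) (Fintype.card F) := by
        apply Nat.Coprime.pow_left
        rw [Nat.coprime_two_left, Nat.odd_iff]
        exact hodd
      exact h3.dvd_of_dvd_mul_left h2
    -- groups of order dividing 4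
    have h4 : ∃ b, b ≤ 2 ∧ Nat.card (Q : Subgroup S) = 2 ^ b := ⟨a, hle, ha⟩
    rcases Nat.lt_or_ge a 2 with h5 | h5
    · haveI : IsCyclic (Q : Subgroup S) := by
        rcases Nat.lt_or_ge a 1 with h6 | h6
        · have h7 : a = 0 := by omega
          rw [h7, pow_zero] at ha
          haveI := (Nat.card_eq_one_iff_unique.1 ha).1
          exact isCyclic_of_subsingleton
        · have h7 : a = 1 := by omega
          rw [h7, pow_one] at ha
          exact isCyclic_of_prime_card ha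
      exact ⟨⟨fun a b => IsCyclic.commGroup.mul_comm a b⟩⟩
    · have h6 : a = 2 := by omega
      rw [h6] at ha
      exact ⟨⟨fun a b => (IsPGroup.commGroupOfCardEqPrimeSq ha).mul_comm a b⟩⟩

/-! ### Quasidihedral rows -/

section qd

open Cfsg.Agent Cfsg.Agent.GH.Cov.SylowThree Cfsg.Agent.TwoFusion.GUTwo
open scoped MatrixGroups Matrix

theorem qd_psl3 {F : Type u} [Field F] [Fintype F] (hF4 : Fintype.card F % 4 = 3)
    {X : Type v} [Group X] [Finite X] (e0 : X ≃* Matrix.ProjectiveSpecialLinearGroup (Fin 3) F)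
    (h2 : 2 ∣ Nat.card X) (S : Sylow 2 X) : Cfsg.IsQuasiDihedral (S : Subgroup X) := by
  have hF : Odd (Fintype.card F) := by rw [Nat.odd_iff]; omega
  have : Fact (Nat.Prime 2) := ⟨Nat.prime_two⟩
  obtain ⟨t, ht, hi⟩ := exists_central_inv h2 S
  obtain ⟨Z, hZn, -, hZc, ⟨e⟩⟩ := Cfsg.Agent.S1219.result hF (e0 t) (by
    rw [← ht]; exact orderOf_injective e0.toMonoidHom e0.injective t)
  let φ : GL (Fin 2) F →* X := e0.symm.toMonoidHom.comp ((centralizer
    ({e0 t} : Set (Matrix.ProjectiveSpecialLinearGroup (Fin 3) F))).subtype.comp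
      (e.symm.toMonoidHom.comp (QuotientGroup.mk' Z)))
  have hφ : ∀ g, φ g = e0.symm ((e.symm (QuotientGroup.mk' Z g) : centralizer
    ({e0 t} : Set (Matrix.ProjectiveSpecialLinearGroup (Fin 3) F))) :
      Matrix.ProjectiveSpecialLinearGroup (Fin 3) F) := fun g => rfl
  have hker : φ.ker = Z := by
    ext g
    rw [MonoidHom.mem_ker, hφ, e0.symm.map_eq_one_iff, OneMemClass.coe_eq_one,
      e.symm.map_eq_one_iff]
    exact QuotientGroup.eq_one_iff g
  have hrange : φ.range = centralizer ({t} : Set X) := by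
    ext x
    rw [MonoidHom.mem_range, mem_centralizer_singleton_iff]
    constructor
    · rintro ⟨g, rfl⟩
      have h3 := mem_centralizer_singleton_iff.1 (e.symm (QuotientGroup.mk' Z g)).2
      apply e0.injective
      rw [hφ, map_mul, map_mul, e0.apply_symm_apply]
      exact h3
    · intro hx
      have hx' : e0 x ∈ centralizer
          ({e0 t} : Set (Matrix.ProjectiveSpecialLinearGroup (Fin 3) F)) := by
        rw [mem_centralizer_singleton_iff, ← map_mul, ← map_mul, hx]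
      obtain ⟨g, hg⟩ := QuotientGroup.mk'_surjective Z (e ⟨e0 x, hx'⟩)
      refine ⟨g, ?_⟩
      rw [hφ, hg, e.symm_apply_apply]
      exact e0.symm_apply_apply x
  have hk : Odd (Nat.card φ.ker) := by
    rw [hker, hZc]
    exact Odd.of_dvd_nat (by decide : Odd 3) (Nat.gcd_dvd_right _ _)
  obtain ⟨P⟩ : Nonempty (Sylow 2 (GL (Fin 2) F)) := inferInstance
  obtain ⟨e1⟩ := sylow_iso φ hk (by rw [hrange]; exact hi) P S
  have h3 := Cfsg.Agent.S1217.result P
  exact TwoFusion.SylowTypeTransfer.isQuasiDihedral_of_mulEquiv e1 (h3.1 hF4)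

theorem qd_psu3 {F : Type u} [Field F] [Fintype F] {q : ℕ} (hF : Fintype.card F = q ^ 2) (hq4 : q % 4 = 1)
    {X : Type v} [Group X] [Finite X] (e0 : X ≃* Cfsg.PSU 3 F q) (S : Sylow 2 X) :
    Cfsg.IsQuasiDihedral (S : Subgroup X) := by
  have hq : Odd q := by rw [Nat.odd_iff]; omega
  have : Fact (Nat.Prime 2) := ⟨Nat.prime_two⟩
  have hfin : Finite (Cfsg.PSU 3 F q) := Finite.of_equiv X e0.toEquiv
  let π : Cfsg.SU 3 F q →* Cfsg.PSU 3 F q := QuotientGroup.mk' _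
  let φ : GU2 F q →* X := e0.symm.toMonoidHom.comp (π.comp (emb hF))
  have hcZ : Nat.card (center (Cfsg.SU 3 F q)) = Nat.gcd 3 (q + 1) :=
    Cfsg.Agent.S0279.result hF 3 le_rfl
  have hker : ∀ g, g ∈ φ.ker ↔ emb hF g ∈ center (Cfsg.SU 3 F q) := by
    intro g
    rw [MonoidHom.mem_ker]
    show e0.symm (π (emb hF g)) = 1 ↔ _
    rw [e0.symm.map_eq_one_iff]
    exact QuotientGroup.eq_one_iff _
  have hkd : Nat.card φ.ker ∣ 3 := by
    have h1 : φ.ker.map (emb hF) ≤ center (Cfsg.SU 3 F q) := by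
      rintro _ ⟨g, hg, rfl⟩
      exact (hker g).1 hg
    have h2 : Nat.card (φ.ker.map (emb hF)) = Nat.card φ.ker :=
      Subgroup.card_map_of_injective (emb_injective hF)
    rw [← h2]
    exact (Subgroup.card_dvd_of_le h1).trans (hcZ ▸ Nat.gcd_dvd_left _ _)
  have hk : Odd (Nat.card φ.ker) := Odd.of_dvd_nat (by decide) hkd
  have hG := card_GU2 (F := F) hF
  have hS := Cfsg.Agent.S0278.result hF 3 (by norm_num)
  have hq2 := two_le hF
  have hidx : Odd φ.range.index := by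
    -- orders
    have h1 : Nat.card φ.range * φ.range.index = Nat.card X := φ.range.card_mul_index
    have h2 : Nat.card φ.ker * Nat.card φ.range = Nat.card (GU2 F q) := by
      rw [← Subgroup.index_ker, Subgroup.card_mul_index]
    have h3 : Nat.card (Cfsg.SU 3 F q) = Nat.gcd 3 (q + 1) * Nat.card X := by
      rw [← Subgroup.card_mul_index (center (Cfsg.SU 3 F q)), hcZ, Nat.card_congr e0.toEquiv]
      rfl
    have hprod : (∏ i ∈ Finset.range 3, (if Even i then q ^ (i + 1) + 1 else q ^ (i + 1) - 1)) =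
        (q + 1) * (q ^ 2 - 1) * (q ^ 3 + 1) := by
      rw [Finset.prod_range_succ, Finset.prod_range_succ, Finset.prod_range_succ,
        Finset.prod_range_zero]
      norm_num only [Nat.even_iff, _root_.pow_one, _root_.ite_true, _root_.one_mul, _root_.ite_false]
    rw [hprod, h3] at hS
    rw [hG] at h2
    generalize Nat.card X = N at *
    generalize Nat.card φ.ker = k at *
    generalize Nat.card φ.range = R at *
    generalize φ.range.index = i at *
    generalize Nat.gcd 3 (q + 1) = g at *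
    obtain ⟨m, rfl⟩ : ∃ m, q = m + 1 := ⟨q - 1, by omega⟩
    have hm : 0 < m := by omega
    have e1 : m + 1 - 1 = m := by omega
    have e2 : (m + 1) ^ 2 - 1 = m * (m + 2) := by
      have : (m + 1) ^ 2 = m * (m + 2) + 1 := by ring
      omega
    have e3 : 3 * (3 - 1) / 2 = 3 := by norm_num
    rw [e2, e3, ← h1] at hS
    rw [e1] at h2
    have key : g * i = k * ((m + 1) ^ 2 * (m ^ 2 + m + 1)) := by
      have hpos : 0 < (m + 2) ^ 3 * m * (m + 1) := by (clear * - hm; positivity)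
      apply Nat.eq_of_mul_eq_mul_left hpos
      calc (m + 2) ^ 3 * m * (m + 1) * (g * i)
          = ((m + 1 + 1) * ((m + 1) * m) * (m + 1 + 1)) * ((m + 1 + 1) * (g * i)) := by ring
        _ = (k * R) * ((m + 1 + 1) * (g * i)) := by rw [h2]
        _ = k * ((m + 1 + 1) * (g * (R * i))) := by ring
        _ = _ := by rw [hS]; ring
    have hodd : Odd (g * i) := by
      rw [key]
      have hme : Even m := by
        rw [Nat.odd_iff] at hq; rw [Nat.even_iff]; omega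
      refine hk.mul ((Even.add_one hme).pow.mul ?_)
      refine Even.add_one ?_
      exact (hme.pow_of_ne_zero two_ne_zero).add hme
    exact (Nat.odd_mul.1 hodd).2
  obtain ⟨P⟩ : Nonempty (Sylow 2 (GU2 F q)) := inferInstance
  obtain ⟨e1⟩ := sylow_iso φ hk hidx P S
  have h3 := Cfsg.Agent.S1218.result q hF hq P
  exact TwoFusion.SylowTypeTransfer.isQuasiDihedral_of_mulEquiv e1 (h3.1 hq4)

end qd

/-- **`PSL₃(q)`, `q = 3 mod 4`.** -/
theorem evenJ_psl3 {F : Type v} [Field F] [Fintype F] (hF : Fintype.card F % 4 = 3)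
    {S : Type u} [Group S] [Fintype S] (e : S ≃* Matrix.ProjectiveSpecialLinearGroup (Fin 3) F)
    (h2 : 2 ∣ Nat.card S) : EvenJ S := by
  obtain ⟨P⟩ : Nonempty (Sylow 2 S) := inferInstance
  exact evenJ_of_qd P (qd_psl3 hF e h2 P)

/-- **`PSU₃(q)`, `q = 1 mod 4`.** -/
theorem evenJ_psu3 {F : Type v} [Field F] [Fintype F] {q : ℕ} (hF : Fintype.card F = q ^ 2)
    (hq : q % 4 = 1) {S : Type u} [Group S] [Fintype S] (e : S ≃* Cfsg.PSU 3 F q) : EvenJ S := by
  obtain ⟨P⟩ : Nonempty (Sylow 2 S) := inferInstance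
  exact evenJ_of_qd P (qd_psu3 hF hq e P)

end Cfsg.Agent.H497.EB
end
end
end
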